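import Cfsg.Agent.Omega.NOThreeL.RRed.NS.Blk

/-!
# THEOREM NS (#24102): covered vectors and the comparison of two natural blocks over one offender

`M : NatKM F S P V D k`, `h : Nb M`, `C : Cd M j l g` (coordinates of `blk M j`), `2 < |F|`, `A` the root group of the
`j`-th summand (`One M U A j`), `covs U A = {[a, u]}`.

* `YY M j = {w ∈ blk M j : e w j 1 = 0}`, `DD M j = blk M j ∩ D`, `C.LL` = the torus part of `YY M j`;
* `covs_iff` : the covered vectors are the `l (β t) g (β t²)`; `YY_eq` : `closure (covs U A) = YY M j`;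
* `cov_small`, `cov_big` : `YY - covs = DD - 1`, resp. `(DD ∪ LL) - 1` if `|DD| = |F|`;
* **`compare`** : two natural modules over one `A`.
-/

set_option autoImplicit false
set_option linter.unusedSectionVars false

namespace Cfsg.Agent.Omega.NOThreeL.RRed.NS

open Subgroup Cfsg Cfsg.Agent.ZN Cfsg.Agent.ZN.ChoiceBase
open Cfsg.Agent.Omega.FFThm Cfsg.Agent.Omega.NatPair Cfsg.Agent.Lib.SL2Mat
open Cfsg.Agent.Omega.NO3S.ThmB Cfsg.Agent.Omega.NO3S.KeyRad

universe u

variable {G : Type u} [Group G] {F : Type} [Field F] {S P V D : Subgroup G} {k : ℕ}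

/-- the commutators `[a, u]`, `a ∈ A`, `u ∈ U` -/
def covs (U A : Subgroup G) : Set G := {w | ∃ a ∈ A, ∃ u ∈ U, a * u * a⁻¹ * u⁻¹ = w}

/-- `D_j = blk M j ∩ D` -/
def DD (M : NatKM F S P V D k) (j : Fin k) : Subgroup G := blk M j ⊓ D

section defs

variable {M : NatKM F S P V D k} (h : Nb M)
include h

/-- `Y_j = {w ∈ blk M j : e w j 1 = 0}` -/
def YY (j : Fin k) : Subgroup G where
  carrier := {w | w ∈ blk M j ∧ M.e w j 1 = 0}
  one_mem' := ⟨one_mem _, by rw [Nb.e_one (M := M)]; rfl⟩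
  mul_mem' := by
    rintro a b ⟨ha, ha0⟩ ⟨hb, hb0⟩
    refine ⟨mul_mem ha hb, ?_⟩
    rw [M.mul a (blk_le h j ha) b (blk_le h j hb), Pi.add_apply, Pi.add_apply, ha0, hb0, add_zero]
  inv_mem' := by
    rintro a ⟨ha, ha0⟩
    exact ⟨inv_mem ha, by rw [h.e_inv (blk_le h j ha), ha0]⟩

theorem mem_YY {j : Fin k} {w : G} : w ∈ YY h j ↔ w ∈ blk M j ∧ M.e w j 1 = 0 := Iff.rfl

theorem YY_le (j : Fin k) : YY h j ≤ blk M j := fun _ hw => hw.1

theorem YY_le_V (j : Fin k) : YY h j ≤ V := (YY_le h j).trans (blk_le h j)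

theorem DD_le_YY (j : Fin k) : DD M j ≤ YY h j := fun w hw => ⟨hw.1, by
  have h1 := (M.ker w (h.DV hw.2)).2 hw.2
  rw [h1]; rfl⟩

theorem mem_DD [CharP F 2] {j : Fin k} {w : G} (hw : w ∈ blk M j) : w ∈ DD M j ↔ M.e w j = 0 := by
  constructor
  · intro h1
    rw [(M.ker w (h.DV h1.2)).2 h1.2]; rfl
  · intro h1
    refine ⟨hw, (M.ker w (blk_le h j hw)).1 ?_⟩
    funext i
    by_cases hi : i = j
    · rw [hi, h1]; rfl
    · exact e_blk h hi hw

end defs

namespace Cd

variable {M : NatKM F S P V D k} {j : Fin k} {l g : F → G} (C : Cd M j l g)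
include C

theorem l_zero : l 0 = 1 := by
  have h := C.la 0 0
  rw [add_zero] at h
  exact left_eq_mul.1 h

theorem g_zero : g 0 = 1 := by
  have h := C.ga 0 0
  rw [add_zero] at h
  exact left_eq_mul.1 h

theorem l_inj {s t : F} (hst : l s = l t) : s = t := by
  have h1 := C.le s
  rw [hst, C.le t] at h1
  exact (congrFun h1 0).symm

variable (h : Nb M) [CharP F 2]
include h

theorem lV (s : F) : l s ∈ V := blk_le h j (C.lm s)

theorem gV (s : F) : g s ∈ V := blk_le h j (C.gm s)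

theorem lY (s : F) : l s ∈ YY h j := ⟨C.lm s, by rw [C.le s]; rfl⟩

theorem gDD (x : F) : g x ∈ DD M j := ⟨C.gm x, C.gD x⟩

theorem gY (x : F) : g x ∈ YY h j := DD_le_YY h j (C.gDD h x)

theorem e_lg (s x : F) : M.e (l s * g x) j = ![s, 0] := by
  rw [M.mul _ (C.lV h s) _ (C.gV h x), Pi.add_apply, C.le s, (mem_DD h (C.gm x)).1 (C.gDD h x), add_zero]

theorem exists_eq {w : G} (hw : w ∈ YY h j) : ∃ s x, w = l s * g x := by
  obtain ⟨hwb, hw0⟩ := hw
  have h1 : (l (M.e w j 0))⁻¹ * w ∈ blk M j := mul_mem (inv_mem (C.lm _)) hwb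
  have h2 : M.e ((l (M.e w j 0))⁻¹ * w) j = 0 := by
    rw [M.mul _ (inv_mem (C.lV h _)) _ (blk_le h j hwb), Pi.add_apply, h.e_inv (C.lV h _), C.le]
    funext i
    fin_cases i
    · change M.e w j 0 + M.e w j 0 = 0
      exact CharTwo.add_self_eq_zero _
    · change 0 + M.e w j 1 = 0
      rw [hw0, add_zero]
  obtain ⟨x, hx⟩ := C.gs _ h1 ((mem_DD h h1).2 h2).2
  refine ⟨M.e w j 0, x, ?_⟩
  rw [hx, mul_inv_cancel_left]

theorem lg_inj {s t x y : F} (hst : l s * g x = l t * g y) : s = t ∧ g x = g y := by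
  have h1 := C.e_lg h s x
  rw [hst, C.e_lg h t y] at h1
  have h2 : s = t := (congrFun h1 0).symm
  refine ⟨h2, ?_⟩
  rw [h2] at hst
  exact mul_left_cancel hst

theorem lg_mem_DD {s x : F} : l s * g x ∈ DD M j ↔ s = 0 := by
  rw [mem_DD h (mul_mem (C.lm s) (C.gm x)), C.e_lg h]
  constructor
  · intro h1
    exact congrFun h1 0
  · rintro rfl
    funext i
    fin_cases i <;> rfl

/-- the torus part of `Y_j` -/
def LL : Subgroup G where
  carrier := {w | ∃ s, l s = w}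
  one_mem' := ⟨0, C.l_zero⟩
  mul_mem' := by
    rintro _ _ ⟨s, rfl⟩ ⟨t, rfl⟩
    exact ⟨s + t, C.la s t⟩
  inv_mem' := by
    rintro _ ⟨s, rfl⟩
    exact ⟨s, (h.inv_eq (C.lV h s)).symm⟩

theorem mem_LL {w : G} : w ∈ C.LL h ↔ ∃ s, l s = w := Iff.rfl

theorem LL_le : C.LL h ≤ YY h j := by
  rintro _ ⟨s, rfl⟩
  exact C.lY h s

theorem lg_mem_LL {s x : F} : l s * g x ∈ C.LL h ↔ g x = 1 := by
  constructor
  · rintro ⟨t, ht⟩
    have h1 : l t * g 0 = l s * g x := by rw [C.g_zero, mul_one, ht]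
    exact ((C.lg_inj h h1).2).symm.trans C.g_zero
  · intro h1
    exact ⟨s, by rw [h1, mul_one]⟩

theorem DD_inf_LL : DD M j ⊓ C.LL h = ⊥ := by
  rw [eq_bot_iff]
  rintro _ ⟨h1, s, rfl⟩
  have h2 : l s * g 0 ∈ DD M j := by rw [C.g_zero, mul_one]; exact h1
  rw [(C.lg_mem_DD h).1 h2, C.l_zero]
  exact one_mem _

theorem card_LL : Nat.card (C.LL h) = Nat.card F := by
  refine (Nat.card_congr (Equiv.ofBijective (fun s : F => (⟨l s, s, rfl⟩ : C.LL h)) ⟨?_, ?_⟩)).symm
  · intro s t hst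
    exact C.l_inj (congrArg Subtype.val hst)
  · rintro ⟨_, s, rfl⟩
    exact ⟨s, rfl⟩

theorem card_DD_le [Finite F] : Nat.card (DD M j) ≤ Nat.card F := by
  refine Nat.card_le_card_of_surjective (fun s : F => (⟨g s, C.gDD h s⟩ : DD M j)) ?_
  rintro ⟨d, hd⟩
  obtain ⟨x, hx⟩ := C.gs d hd.1 hd.2
  exact ⟨x, Subtype.ext hx⟩

/-- `|D_j| < |F|` : `g` has a kernel -/
theorem exists_ker [Finite F] (hc : Nat.card (DD M j) < Nat.card F) : ∃ y, y ≠ 0 ∧ g y = 1 := by
  by_contra hcon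
  push Not at hcon
  refine absurd hc (not_lt.2 ?_)
  have hfin : Finite (DD M j) := Nat.finite_of_card_ne_zero (by
    intro h0
    have : Infinite (DD M j) := by
      rcases Nat.card_eq_zero.1 h0 with h1 | h1
      · exact absurd (one_mem (DD M j)) (fun h2 => h1.false ⟨1, h2⟩)
      · exact h1
    have h3 : Function.Surjective (fun s : F => (⟨g s, C.gDD h s⟩ : DD M j)) := by
      rintro ⟨d, hd⟩
      obtain ⟨x, hx⟩ := C.gs d hd.1 hd.2
      exact ⟨x, Subtype.ext hx⟩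
    exact not_finite_iff_infinite.2 this (Finite.of_surjective _ h3))
  refine Nat.card_le_card_of_injective (fun s : F => (⟨g s, C.gDD h s⟩ : DD M j)) ?_
  intro s t hst
  have h1 : g s = g t := congrArg Subtype.val hst
  by_contra hne
  refine hcon (s + t) (fun h0 => hne ?_) ?_
  · have h2 := CharTwo.add_self_eq_zero t
    have h3 : s + t = t + t := by rw [h0, h2]
    exact add_right_cancel h3
  · rw [C.ga, h1]
    exact h.sq (C.gV h t)

/-- `|D_j| = |F|` : `g` is injective -/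
theorem g_inj [Finite F] (hc : Nat.card (DD M j) = Nat.card F) {s t : F} (hst : g s = g t) : s = t := by
  have hsur : Function.Surjective (fun s : F => (⟨g s, C.gDD h s⟩ : DD M j)) := by
    rintro ⟨d, hd⟩
    obtain ⟨x, hx⟩ := C.gs d hd.1 hd.2
    exact ⟨x, Subtype.ext hx⟩
  have : Finite (DD M j) := Finite.of_surjective _ hsur
  have hb := (Nat.bijective_iff_surjective_and_card (fun s : F => (⟨g s, C.gDD h s⟩ : DD M j))).2 ⟨hsur, hc.symm⟩
  exact hb.1 (Subtype.ext hst)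

end Cd

section one

variable {M : NatKM F S P V D k} (h : Nb M) [CharP F 2] {U A : Subgroup G} {j : Fin k} {l g : F → G}
  (C : Cd M j l g) (O : One M U A j) (hAP : A ≤ P) (hVU : V ≤ U)
include h C O hAP hVU

/-- **the covered vectors** -/
theorem covs_iff {w : G} : w ∈ covs U A ↔ ∃ β t, w = l (β * t) * g (β * t ^ 2) := by
  constructor
  · rintro ⟨a, ha, u, hu, rfl⟩
    obtain ⟨β, hβ⟩ := O.act a ha
    obtain ⟨v, hv, -, c, -, hc, rfl⟩ := O.full u hu
    refine ⟨β, M.e v j 1, ?_⟩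
    rw [← C.cm a (hAP ha) β hβ v hv]
    have h1 := hc a ha
    calc a * (v * c) * a⁻¹ * (v * c)⁻¹ = a * v * (c * a⁻¹) * c⁻¹ * v⁻¹ := by group
      _ = a * v * (a⁻¹ * c) * c⁻¹ * v⁻¹ := by
        have h2 : c * a⁻¹ = a⁻¹ * c := by
          rw [eq_inv_mul_iff_mul_eq, ← mul_assoc, h1, mul_inv_cancel_right]
        rw [h2]
      _ = a * v * a⁻¹ * v⁻¹ := by group
  · rintro ⟨β, t, rfl⟩
    obtain ⟨a, ha, hβ⟩ := O.all β
    obtain ⟨v, hv, hvj, -⟩ := Nb.exists_single M j ![0, t]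
    refine ⟨a, ha, v, hVU hv, ?_⟩
    rw [C.cm a (hAP ha) β hβ v hv, hvj]
    rfl

theorem covs_lg {s x : F} : l s * g x ∈ covs U A ↔ l s * g x = 1 ∨ (s ≠ 0 ∧ ∃ y, y ≠ 0 ∧ g y = g x) := by
  rw [covs_iff h C O hAP hVU]
  constructor
  · rintro ⟨β, t, hw⟩
    obtain ⟨h1, h2⟩ := C.lg_inj h hw
    by_cases hs : s = 0
    · left
      rw [hs] at h1
      rcases mul_eq_zero.1 h1.symm with h3 | h3
      · rw [hs, C.l_zero, h2, h3, zero_mul, C.g_zero, one_mul]
      · rw [hs, C.l_zero, h2, h3]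
        rw [zero_pow two_ne_zero, mul_zero, C.g_zero, one_mul]
    · right
      refine ⟨hs, β * t ^ 2, ?_, h2.symm⟩
      rw [h1] at hs
      have h3 := left_ne_zero_of_mul hs
      have h4 := right_ne_zero_of_mul hs
      exact mul_ne_zero h3 (pow_ne_zero 2 h4)
  · rintro (h1 | ⟨hs, y, hy, hyx⟩)
    · exact ⟨0, 0, by rw [h1, zero_mul, zero_mul, C.l_zero, C.g_zero, one_mul]⟩
    · refine ⟨s ^ 2 / y, y / s, ?_⟩
      have e1 : s ^ 2 / y * (y / s) = s := by field_simp
      have e2 : s ^ 2 / y * (y / s) ^ 2 = y := by field_simp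
      rw [e1, e2, hyx]

theorem covs_sub {w : G} (hw : w ∈ covs U A) : w ∈ YY h j := by
  obtain ⟨β, t, rfl⟩ := (covs_iff h C O hAP hVU).1 hw
  exact mul_mem (C.lY h _) (C.gY h _)

/-- **`[U, A] = Y_j`** -/
theorem YY_eq [Finite F] (hF : 2 < Nat.card F) : closure (covs U A) = YY h j := by
  apply le_antisymm
  · rw [closure_le]
    exact fun w hw => covs_sub h C O hAP hVU hw
  · intro w hw
    obtain ⟨s, x, rfl⟩ := C.exists_eq h hw
    have key : ∀ s : F, ∃ a b : F, a ≠ 0 ∧ b ≠ 0 ∧ s = a + b := by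
      intro s
      obtain ⟨a, ha0, has⟩ : ∃ a : F, a ≠ 0 ∧ a ≠ s := by
        by_contra hcon
        push Not at hcon
        have hs : (Set.univ : Set F) ⊆ {0, s} := by
          intro x _
          rcases eq_or_ne x 0 with h | h
          · exact Or.inl h
          · exact Or.inr (hcon x h)
        have h3 := Set.ncard_le_ncard hs (Set.toFinite _)
        have h4 := Set.ncard_insert_le (0 : F) {s}
        rw [Set.ncard_univ] at h3
        rw [Set.ncard_singleton] at h4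
        omega
      exact ⟨a, s - a, ha0, fun h0 => has (sub_eq_zero.1 h0).symm, by ring⟩
    obtain ⟨s1, s2, hs1, hs2, rfl⟩ := key s
    obtain ⟨x1, x2, hx1, hx2, rfl⟩ := key x
    have h1 : l s1 * g x1 ∈ covs U A := (covs_lg h C O hAP hVU).2 (Or.inr ⟨hs1, x1, hx1, rfl⟩)
    have h2 : l s2 * g x2 ∈ covs U A := (covs_lg h C O hAP hVU).2 (Or.inr ⟨hs2, x2, hx2, rfl⟩)
    have h3 : l (s1 + s2) * g (x1 + x2) = l s1 * g x1 * (l s2 * g x2) := by
      rw [C.la, C.ga]
      have h4 := h.cm (C.lV h s2) (C.gV h x1)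
      calc l s1 * l s2 * (g x1 * g x2) = l s1 * (l s2 * g x1) * g x2 := by group
        _ = l s1 * (g x1 * l s2) * g x2 := by rw [h4]
        _ = _ := by group
    rw [h3]
    exact mul_mem (subset_closure h1) (subset_closure h2)

theorem cov_small [Finite F] (hc : Nat.card (DD M j) < Nat.card F) {w : G} (hw : w ∈ YY h j) :
    w ∈ covs U A ↔ w = 1 ∨ w ∉ DD M j := by
  obtain ⟨s, x, rfl⟩ := C.exists_eq h hw
  rw [covs_lg h C O hAP hVU, C.lg_mem_DD h]
  refine or_congr Iff.rfl ⟨fun h1 => h1.1, fun h1 => ⟨h1, ?_⟩⟩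
  by_cases hx : x = 0
  · obtain ⟨y, hy, hy1⟩ := C.exists_ker h hc
    exact ⟨y, hy, by rw [hy1, hx, C.g_zero]⟩
  · exact ⟨x, hx, rfl⟩

theorem cov_big [Finite F] (hc : Nat.card (DD M j) = Nat.card F) {w : G} (hw : w ∈ YY h j) :
    w ∈ covs U A ↔ w = 1 ∨ (w ∉ DD M j ∧ w ∉ C.LL h) := by
  obtain ⟨s, x, rfl⟩ := C.exists_eq h hw
  rw [covs_lg h C O hAP hVU, C.lg_mem_DD h, C.lg_mem_LL h]
  refine or_congr Iff.rfl (and_congr Iff.rfl ⟨?_, fun h1 => ⟨x, ?_, rfl⟩⟩)
  · rintro ⟨y, hy, hyx⟩ h1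
    rw [h1, ← C.g_zero] at hyx
    exact hy (C.g_inj h hc hyx)
  · rintro rfl
    exact h1 C.g_zero

end one

namespace Cd

variable {M : NatKM F S P V D k} {j : Fin k} {l g : F → G} (C : Cd M j l g) (h : Nb M) [CharP F 2]
include C h

theorem card_YY : Nat.card (YY h j) = Nat.card F * Nat.card (DD M j) := by
  rw [← Nat.card_prod]
  refine (Nat.card_congr (Equiv.ofBijective
    (fun p : F × DD M j => (⟨l p.1 * (p.2 : G), mul_mem (C.lY h p.1) (DD_le_YY h j p.2.2)⟩ : YY h j)) ⟨?_, ?_⟩)).symm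
  · rintro ⟨s, d, hd⟩ ⟨t, d', hd'⟩ hst
    have h1 : l s * d = l t * d' := congrArg Subtype.val hst
    obtain ⟨x, rfl⟩ := C.gs d hd.1 hd.2
    obtain ⟨y, rfl⟩ := C.gs d' hd'.1 hd'.2
    obtain ⟨h2, h3⟩ := C.lg_inj h h1
    exact Prod.ext h2 (Subtype.ext h3)
  · rintro ⟨w, hw⟩
    obtain ⟨s, x, rfl⟩ := C.exists_eq h hw
    exact ⟨⟨s, g x, C.gDD h x⟩, rfl⟩

end Cd

/-- a subgroup in the union of two -/
theorem le_or_le_of_union {A B C : Subgroup G} (h : ∀ x ∈ A, x ∈ B ∨ x ∈ C) : A ≤ B ∨ A ≤ C := by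
  by_contra hcon
  push Not at hcon
  obtain ⟨h1, h2⟩ := hcon
  obtain ⟨x, hx, hxB⟩ := SetLike.not_le_iff_exists.1 h1
  obtain ⟨y, hy, hyC⟩ := SetLike.not_le_iff_exists.1 h2
  have hxC : x ∈ C := (h x hx).resolve_left hxB
  have hyB : y ∈ B := (h y hy).resolve_right hyC
  rcases h (x * y) (mul_mem hx hy) with h3 | h3
  · exact hxB ((mul_mem_cancel_right hyB).1 h3)
  · exact hyC ((mul_mem_cancel_left hxC).1 h3)

section cmp

variable {F' : Type} [Field F'] {S' P' V' D' : Subgroup G} {k' : ℕ}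

theorem card_le_of_one [Finite F'] {M : NatKM F S P V D k} {M' : NatKM F' S' P' V' D' k'} (h' : Nb M')
    {U A : Subgroup G} {j : Fin k} {j' : Fin k'} (O : One M U A j) (O' : One M' U A j') (hAP' : A ≤ P')
    (hVU : V ≤ U) : Nat.card F ≤ Nat.card F' := by
  choose a haA ha using O.all
  choose b hb using fun β : F => O'.act (a β) (haA β)
  refine Nat.card_le_card_of_injective b fun β₁ β₂ hβ => ?_
  have h1 : ∀ u ∈ U, a β₁ * u * (a β₁)⁻¹ = a β₂ * u * (a β₂)⁻¹ := by
    intro u hu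
    obtain ⟨v, hv, -, c, -, hc, rfl⟩ := O'.full u hu
    have h2 := h'.same (hAP' (haA β₁)) (hAP' (haA β₂)) (hb β₁) (by rw [hβ]; exact hb β₂) hv
    have h3 : ∀ x ∈ A, x * (v * c) * x⁻¹ = x * v * x⁻¹ * c := by
      intro x hx
      have h4 := hc x⁻¹ (inv_mem hx)
      calc x * (v * c) * x⁻¹ = x * v * (c * x⁻¹) := by group
        _ = x * v * (x⁻¹ * c) := by rw [h4]
        _ = _ := by group
    rw [h3 _ (haA β₁), h3 _ (haA β₂), h2]
  obtain ⟨v, hv, hvj, -⟩ := Nb.exists_single M j ![0, 1]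
  have h2 := (ha β₁).1 v hv j
  have h3 := (ha β₂).1 v hv j
  rw [h1 v (hVU hv), h3, sg_self, sg_self, hvj] at h2
  have h4 := congrFun h2 0
  rw [ap_up_0, ap_up_0] at h4
  simpa using h4.symm

/-- **The comparison of two natural blocks over one offender.** -/
theorem compare [Finite G] [Finite F] [Finite F'] [CharP F 2] [CharP F' 2] {M : NatKM F S P V D k}
    {M' : NatKM F' S' P' V' D' k'} (h : Nb M) (h' : Nb M') {U A : Subgroup G} {j : Fin k} {j' : Fin k'}
    {l g : F → G} {l' g' : F' → G} (C : Cd M j l g) (C' : Cd M' j' l' g') (O : One M U A j) (O' : One M' U A j')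
    (hAP : A ≤ P) (hAP' : A ≤ P') (hVU : V ≤ U) (hVU' : V' ≤ U) (hF : 2 < Nat.card F) :
    Nat.card F = Nat.card F' ∧ YY h j = YY h' j' ∧ Nat.card (DD M j) = Nat.card (DD M' j') ∧
      (DD M j = DD M' j' ∨
        (Nat.card (DD M j) = Nat.card F ∧ DD M' j' = C.LL h ∧ C'.LL h' = DD M j)) := by
  have hcF : Nat.card F = Nat.card F' :=
    le_antisymm (card_le_of_one h' O O' hAP' hVU) (card_le_of_one h O' O hAP hVU')
  have hF' : 2 < Nat.card F' := hcF ▸ hF
  have hY : YY h j = YY h' j' := by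
    rw [← YY_eq h C O hAP hVU hF, ← YY_eq h' C' O' hAP' hVU' hF']
  have hcD : Nat.card (DD M j) = Nat.card (DD M' j') := by
    have h1 := C.card_YY h
    rw [hY, C'.card_YY h', ← hcF] at h1
    exact (Nat.eq_of_mul_eq_mul_left (by omega) h1).symm
  refine ⟨hcF, hY, hcD, ?_⟩
  rcases lt_or_eq_of_le (C.card_DD_le h) with hlt | heq
  · left
    have hlt' : Nat.card (DD M' j') < Nat.card F' := by rw [← hcD, ← hcF]; exact hlt
    ext w
    by_cases hw : w ∈ YY h j
    · have h1 := cov_small h C O hAP hVU hlt hw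
      have h2 := cov_small h' C' O' hAP' hVU' hlt' (hY ▸ hw)
      rw [h1] at h2
      by_cases hw1 : w = 1
      · rw [hw1]; exact ⟨fun _ => one_mem _, fun _ => one_mem _⟩
      · simp only [hw1, false_or] at h2
        exact not_iff_not.1 h2
    · constructor
      · intro h3
        exact absurd (DD_le_YY h j h3) hw
      · intro h3
        rw [hY] at hw
        exact absurd (DD_le_YY h' j' h3) hw
  · have heq' : Nat.card (DD M' j') = Nat.card F' := by rw [← hcD, ← hcF]; exact heq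
    have hun : ∀ w, (w ∈ DD M' j' ∨ w ∈ C'.LL h') → (w ∈ DD M j ∨ w ∈ C.LL h) := by
      intro w hw
      have hwY : w ∈ YY h' j' := by
        rcases hw with hw | hw
        · exact DD_le_YY h' j' hw
        · exact C'.LL_le h' hw
      by_cases hw1 : w = 1
      · left
        rw [hw1]; exact one_mem _
      have h1 := cov_big h C O hAP hVU heq (w := w) (by rw [hY]; exact hwY)
      have h2 := cov_big h' C' O' hAP' hVU' heq' hwY
      rw [h1] at h2
      simp only [hw1, false_or] at h2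
      by_contra hcon
      push Not at hcon
      rcases hw with hw | hw
      · exact (h2.1 hcon).1 hw
      · exact (h2.1 hcon).2 hw
    have hcL : Nat.card (C.LL h) = Nat.card (DD M' j') := by rw [C.card_LL h, heq', hcF]
    have hcL' : Nat.card (C'.LL h') = Nat.card (DD M j) := by rw [C'.card_LL h', heq, hcF]
    rcases le_or_le_of_union fun w hw => hun w (Or.inl hw) with h1 | h1
    · left
      exact (eq_of_le_of_card_ge h1 hcD.le).symm
    · right
      have h2 : DD M' j' = C.LL h := eq_of_le_of_card_ge h1 hcL.le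
      refine ⟨heq, h2, ?_⟩
      rcases le_or_le_of_union fun w hw => hun w (Or.inr hw) with h3 | h3
      · exact eq_of_le_of_card_ge h3 hcL'.ge
      · exfalso
        have h4 : C'.LL h' ≤ ⊥ := by
          rw [← C'.DD_inf_LL h', h2]
          exact le_inf h3 le_rfl
        have h5 := C'.card_LL h'
        rw [le_bot_iff.1 h4, Subgroup.card_bot] at h5
        omega

end cmp

end Cfsg.Agent.Omega.NOThreeL.RRed.NS
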