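import Cfsg.Agent.Omega.NOThreeL.RRed.NS.Main
import Cfsg.Agent.Omega.NOThreeL.RTreeA

/-!
# THEOREM NS (#24102): (SPL)

* `Tt.of_minOff` : a minimal offender on `W` (`Level.MinOff`) without over-offenders is in `EE`;
* `splitBy_of` : `V_P` natural, `(⨆ blk M j) ∩ cv S P = 1` ⟹ `SplitBy S P (cv S P) (⨆ blk M j)`;
* `exists_fix` : otherwise some `1 ≠ x ∈ Z` is in it.
-/

set_option autoImplicit false
set_option linter.unusedSectionVars false

namespace Cfsg.Agent.Omega.NOThreeL.RRed.NS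

open Subgroup Cfsg Cfsg.Agent.ZN Cfsg.Agent.ZN.ChoiceBase Cfsg.Agent.Omega.MinPar
open Cfsg.Agent.Omega.FFThm (NatKM SymKM OffM ElemM NoOverM StmtM ConclM syl_of_sylow)
open Cfsg.Agent.Omega.FrameFF (cv)
open Cfsg.Agent.Omega.NO3S.ThmB Cfsg.Agent.Omega.NO3S.KeyRad
open Cfsg.Agent.Omega.NOThreeL.RTreeA (SplitBy Splits)

universe u

section min

variable {G : Type u} [Group G] [Finite G] {W M A : Subgroup G}

/-- a minimal offender is in `EE` -/
theorem Tt.of_minOff (m : NO3S.Level.MinOff W M A) (no : NoOverM W M) : Tt W A where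
  elem := m.off.toElemM
  ne := m.off.ne
  off := m.off.le
  min := fun B h1 h2 h3 h4 => by
    have hE : ElemM W B := ⟨fun b hb => m.off.sq b (h2 hb), fun b hb c hc => m.off.comm b (h2 hb) c (h2 hc)⟩
    have h5 := no B (h2.trans m.le) hE
    have e : B ⊓ centralizer (W : Set G) = A ⊓ centralizer (W : Set G) :=
      le_antisymm (inf_le_inf_right _ h2) (le_inf h1 inf_le_right)
    by_contra hcon
    have h6 : OffM W B := ⟨hE, h4, by rw [e]; exact m.off.le.trans (not_lt.1 hcon)⟩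
    have h7 := m.min B (h2.trans m.le) (m.pg.to_le h2) h6
    have e1 := card_inf_relIndex (A := A) (C := centralizer (W : Set G))
    have e2 := card_inf_relIndex (A := B) (C := centralizer (W : Set G))
    rw [e] at e2
    have h8 : Nat.card A ≤ Nat.card B := by
      rw [← e1, ← e2]
      exact Nat.mul_le_mul_right _ h7
    exact h3 (eq_of_le_of_card_ge h2 h8)

end min

section mod

variable {G : Type u} [Group G] {F : Type} [Field F] [CharP F 2] {S P V D : Subgroup G} {k : ℕ}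
  {M : NatKM F S P V D k} (h : Nb M)
include h

/-- the blocks generate `V` modulo `D` -/
theorem exists_iSup_blk (v : G) : ∃ w ∈ ⨆ j, blk M j, M.e w = M.e v := by
  classical
  have key : ∀ s : Finset (Fin k), ∃ w ∈ ⨆ j, blk M j, ∀ j, M.e w j = if j ∈ s then M.e v j else 0 := by
    intro s
    induction s using Finset.induction_on with
    | empty => exact ⟨1, one_mem _, fun j => by rw [Nb.e_one (M := M)]; simp⟩
    | insert a s ha ih =>
      obtain ⟨w, hw, hwe⟩ := ih
      obtain ⟨y, hy, hya⟩ := exists_blk_e h a (M.e v a)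
      have hwV : w ∈ V := (iSup_le fun j => blk_le h j : (⨆ j, blk M j) ≤ V) hw
      refine ⟨y * w, mul_mem ((le_iSup (blk M) a : blk M a ≤ _) hy) hw, fun j => ?_⟩
      rw [M.mul _ (blk_le h a hy) _ hwV, Pi.add_apply, hwe]
      by_cases hja : j = a
      · subst hja
        rw [hya, if_neg ha, add_zero, if_pos (Finset.mem_insert_self _ _)]
      · rw [e_blk h hja hy, zero_add]
        simp only [Finset.mem_insert, hja, false_or]
  obtain ⟨w, hw, hwe⟩ := key Finset.univ
  exact ⟨w, hw, funext fun j => by rw [hwe]; simp⟩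

theorem iSup_blk_norm : P ≤ normalizer ((⨆ j, blk M j : Subgroup G) : Set G) := fun g hg =>
  mem_normalizer_iff.2 fun y => ⟨fun hy => conj_iSup_blk h hg hy, fun hy => by
    have h1 := conj_iSup_blk h (inv_mem hg) hy
    have e : g⁻¹ * (g * y * g⁻¹) * g⁻¹⁻¹ = y := by group
    rwa [e] at h1⟩

end mod

variable {G : Type u} [Group G] [Finite G] {S : Sylow 2 G} {P : Subgroup G}

theorem splitBy_of {F : Type} [Field F] [CharP F 2] {k : ℕ}
    {M : NatKM F (S : Subgroup G) P (zl (S : Subgroup G) P) (cv (S : Subgroup G) P) k} (h : Nb M)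
    (h0 : (⨆ j, blk M j) ⊓ cv (S : Subgroup G) P = ⊥) : SplitBy (S : Subgroup G) P (cv (S : Subgroup G) P) (⨆ j, blk M j) := by
  refine ⟨iSup_le fun j => blk_le h j, iSup_blk_norm h, h0, fun v hv => ?_⟩
  obtain ⟨w, hw, hwv⟩ := exists_iSup_blk h v
  have hwV : w ∈ zl (S : Subgroup G) P := (iSup_le fun j => blk_le h j : (⨆ j, blk M j) ≤ _) hw
  have h1 : v * w⁻¹ ∈ cv (S : Subgroup G) P := (h.mem_D hv hwV).2 hwv.symm
  have e : v = v * w⁻¹ * w := by group
  rw [e]
  exact mul_mem (mem_sup_right h1) (mem_sup_left hw)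

theorem exists_fix {F : Type} [Field F] [CharP F 2] {k : ℕ}
    {M : NatKM F (S : Subgroup G) P (zl (S : Subgroup G) P) (cv (S : Subgroup G) P) k} (h : Nb M)
    (hVS : zl (S : Subgroup G) P ≤ S) (h0 : (⨆ j, blk M j) ⊓ cv (S : Subgroup G) P ≠ ⊥) :
    ∃ x ∈ ⨆ j, DD M j, x ≠ 1 ∧ x ∈ zc (S : Subgroup G) ∧ x ∈ cv (S : Subgroup G) P := by
  have hf : Fact (Nat.Prime 2) := ⟨Nat.prime_two⟩
  have hle : (⨆ j, blk M j) ⊓ cv (S : Subgroup G) P ≤ S :=
    inf_le_left.trans ((iSup_le fun j => blk_le h j).trans hVS)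
  have hn : (S : Subgroup G) ≤ normalizer (((⨆ j, blk M j) ⊓ cv (S : Subgroup G) P : Subgroup G) : Set G) := by
    intro s hs
    have h1 := iSup_blk_norm h (h.SP' hs)
    have h2 := h.DP' (h.SP' hs)
    refine mem_normalizer_iff.2 fun y => ?_
    rw [mem_inf, mem_inf]
    exact and_congr (mem_normalizer_iff.1 h1 y) (mem_normalizer_iff.1 h2 y)
  have h1 := PLocal.OffenderStep.inf_centralizer_ne_bot _ (S : Subgroup G) (S.isPGroup'.to_le hle) S.isPGroup' hn h0
  obtain ⟨c, hc1⟩ := Subgroup.ne_bot_iff_exists_ne_one.1 h1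
  refine ⟨c, iSup_DD h c.2.1.1 c.2.1.2, fun h0 => hc1 (Subtype.ext h0), ?_, c.2.1.2⟩
  refine ChoiceBase.mem_zc.2 ⟨hle c.2.1, ?_, fun y hy => mem_centralizer_iff.1 c.2.2 y hy⟩
  rw [pow_two]
  exact h.sq ((iSup_le fun j => blk_le h j : (⨆ j, blk M j) ≤ _) c.2.1.1)

end Cfsg.Agent.Omega.NOThreeL.RRed.NS
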