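import Cfsg.Agent.Omega.NOThreeL.RRed.NS.Fin
import Cfsg.Agent.Omega.NOThreeL.RRed.ClassMx

/-!
# THEOREM NS (#24102): the class theorem's language

* `tt_of_mx` : a minimal exact offender (`Mx`, no over-offender) is in `EE`;
* `active_of_gone` : `GOne S L P A` ⟹ `P` is active on `zl S L`;
* **`gone_bigSplits`, `gone_inf_eq_bot`** : (SPL), if every `1 ≠ z ∈ Z` is moved by some `P'` with `GOne S L P' A'`.
-/

set_option autoImplicit false
set_option linter.unusedSectionVars false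

namespace Cfsg.Agent.Omega.NOThreeL.RRed.NS

open Subgroup Cfsg Cfsg.Agent.ZN Cfsg.Agent.ZN.ChoiceBase Cfsg.Agent.Omega.MinPar
open Cfsg.Agent.Omega.FFThm (NatKM SymKM OffM ElemM NoOverM StmtM ConclM syl_of_sylow)
open Cfsg.Agent.Omega.FrameFF (cv)
open Cfsg.Agent.Omega.NO3S.ThmB Cfsg.Agent.Omega.NO3S.KeyRad
open Cfsg.Agent.Omega.NOThreeL.RTreeA (SplitBy Splits)
open Cfsg.Agent.Omega.NOThreeL.RRed.Blk.SplitAll (BigSplits)

universe u

/-- a minimal exact offender is in `EE` -/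
theorem tt_of_mx {G : Type u} [Group G] {V K A : Subgroup G} (h : Mx V A) (no : NoOverM V K) (hA : A ≤ K) : Tt V A where
  elem := h.toElemM
  ne := h.ne
  off := h.exact.le
  min := fun B h1 h2 h3 h4 => by
    have hE : ElemM V B := ⟨fun b hb => h.sq b (h2 hb), fun b hb c hc => h.comm b (h2 hb) c (h2 hc)⟩
    have h5 := no B (h2.trans hA) hE
    have e : B ⊓ centralizer (V : Set G) = A ⊓ centralizer (V : Set G) :=
      le_antisymm (inf_le_inf_right _ h2) (le_inf h1 inf_le_right)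
    have h6 := h.exact
    refine lt_of_le_of_ne (by rw [← h6, ← e]; exact h5) fun h7 => ?_
    rcases h.min B h2 (by rw [e, h7]; exact h6) h1 with h8 | h8
    · exact h4 h8
    · exact h3 h8

variable {G : Type u} [Group G] [Finite G] {S : Sylow 2 G} {L P A : Subgroup G}

theorem active_of_gone (hc : IsCharacteristicTwoType G) (h : GOne S L P A) :
    Active (S : Subgroup G) P (zl (S : Subgroup G) L) := by
  obtain ⟨B, -, -, hB, g⟩ := h.exists_mx hc
  exact ⟨B, g.AS, tt_of_mx hB g.no ((g.AS.trans g.par.le).trans g.PL), g.offP.ne⟩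

/-- (mv) in the form of the class theorem -/
def MvG (S : Sylow 2 G) (L : Subgroup G) : Prop :=
  ∀ z ∈ zc (S : Subgroup G), z ≠ 1 → ∃ P A, GOne S L P A ∧ ¬ P ≤ centralizer {z}

theorem rc_of_mvG (hc : IsCharacteristicTwoType G) (mv : MvG S L) :
    RC (S : Subgroup G) (zl (S : Subgroup G) L) := by
  intro z hz hz1
  obtain ⟨P, A, g, hm⟩ := mv z hz hz1
  exact ⟨P, g.par, g.PL.trans (ZN.le_normalizer_zl _ _), active_of_gone hc g, hm⟩

theorem elem_zl (h : GOne S L P A) : IsElementaryAbelian 2 (zl (S : Subgroup G) L) := by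
  have hc : ∀ x ∈ zl (S : Subgroup G) L, ∀ y ∈ zl (S : Subgroup G) L, x * y = y * x := fun x hx y hy =>
    mem_centralizer_iff.1 (h.comm hy) x hx
  let T : Subgroup G :=
    { carrier := {x | x ∈ zl (S : Subgroup G) L ∧ x ^ 2 = 1}
      one_mem' := ⟨one_mem _, one_pow 2⟩
      mul_mem' := by
        rintro x y ⟨hx, hx2⟩ ⟨hy, hy2⟩
        refine ⟨mul_mem hx hy, ?_⟩
        rw [Commute.mul_pow (hc x hx y hy), hx2, hy2, one_mul]
      inv_mem' := by
        rintro x ⟨hx, hx2⟩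
        exact ⟨inv_mem hx, by rw [inv_pow, hx2, inv_one]⟩ }
  have hn : ∀ g ∈ L, ∀ x ∈ T, g * x * g⁻¹ ∈ T := fun g hg x hx =>
    ⟨(mem_normalizer_iff.1 (ZN.le_normalizer_zl _ _ hg) x).1 hx.1, by rw [conj_pow, hx.2, mul_one, mul_inv_cancel]⟩
  have hT : zl (S : Subgroup G) L ≤ T :=
    ZN.zl_le (fun x hx => ⟨MinSimple.VModule.zc_le_zl _ _ hx, (ChoiceBase.mem_zc.1 hx).2.1⟩) fun g hg =>
      mem_normalizer_iff.2 fun x => ⟨hn g hg x, fun hx => by
        have h1 := hn g⁻¹ (inv_mem hg) _ hx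
        have e : g⁻¹ * (g * x * g⁻¹) * g⁻¹⁻¹ = x := by group
        rwa [e] at h1⟩
  exact PLocal.ThompsonJ.isElementaryAbelian_iff.2 ⟨hc, fun x hx => (hT hx).2⟩

/-- **(SPL)** -/
theorem gone_bigSplits (hc : IsCharacteristicTwoType G) (mv : MvG S L) (h : GOne S L P A) :
    BigSplits (S : Subgroup G) P :=
  bigSplits hc FFBr.ffthmM h.par (elem_zl h) (h.PL.trans (ZN.le_normalizer_zl _ _)) (MinSimple.VModule.zc_le_zl _ _)
    (rc_of_mvG hc mv) (active_of_gone hc h)

theorem gone_inf_eq_bot (hc : IsCharacteristicTwoType G) (mv : MvG S L) (h : GOne S L P A) {F : Type} [Field F]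
    [Finite F] [CharP F 2] {k : ℕ}
    (M : NatKM F (S : Subgroup G) P (zl (S : Subgroup G) P) (cv (S : Subgroup G) P) k) (hF : 2 < Nat.card F) :
    (⨆ j, blk M j) ⊓ cv (S : Subgroup G) P = ⊥ :=
  inf_eq_bot hc FFBr.ffthmM h.par (elem_zl h) (h.PL.trans (ZN.le_normalizer_zl _ _)) (MinSimple.VModule.zc_le_zl _ _)
    (rc_of_mvG hc mv) (active_of_gone hc h) M hF

theorem gone_splitBy (hc : IsCharacteristicTwoType G) (mv : MvG S L) (h : GOne S L P A) {F : Type} [Field F]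
    [Finite F] [CharP F 2] {k : ℕ}
    (M : NatKM F (S : Subgroup G) P (zl (S : Subgroup G) P) (cv (S : Subgroup G) P) k) (hF : 2 < Nat.card F) :
    SplitBy (S : Subgroup G) P (cv (S : Subgroup G) P) (⨆ j, blk M j) :=
  splitBy hc FFBr.ffthmM h.par (elem_zl h) (h.PL.trans (ZN.le_normalizer_zl _ _)) (MinSimple.VModule.zc_le_zl _ _)
    (rc_of_mvG hc mv) (active_of_gone hc h) M hF

end Cfsg.Agent.Omega.NOThreeL.RRed.NS
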