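import Cfsg.Agent.Omega.NOThreeL.RRed.NS.Min
import Cfsg.Agent.Omega.NO3S.ThmB.NatFam

/-!
# THEOREM NS (#24102), part (1)

`M : NatKM F S P V D k`, `V ≤ U`, `A ≤ S` a smallest best offender on `U` (`Tt U A`) which acts as the root group of the
block `i` (`One M U A i`).  `Sd S P' U V' A'` : the second parabolic, `A'` a smallest best offender with `U = V' C_U(A')`,
`P' = N' S`, `N' = NC P' A'` the normal closure of `A'` in `P'`.

* `comm_Y` : all smallest best offenders in `S` centralise `[U, A]`;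
* `Sd.cent_comm` **(1)** : `A ≤ C(V')` ⟹ `N'` centralises `[U, A]`;
* `Sd.cent_YY` : then `N'` centralises `YY M j = {w ∈ blk M j : e w j 1 = 0}` for all `j`.
-/

set_option autoImplicit false
set_option linter.unusedSectionVars false

namespace Cfsg.Agent.Omega.NOThreeL.RRed.NS

open Subgroup Cfsg Cfsg.Agent.ZN Cfsg.Agent.ZN.ChoiceBase
open Cfsg.Agent.Omega.FFThm Cfsg.Agent.Lib.SL2Mat
open Cfsg.Agent.Omega.NatPair (ap)
open Cfsg.Agent.Omega.NO3S.ThmB Cfsg.Agent.Omega.NO3S.KeyRad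

universe u

variable {G : Type u} [Group G]

/-- the normal closure of `A` in `P` -/
def NC (P A : Subgroup G) : Subgroup G := closure {x | ∃ g ∈ P, ∃ a ∈ A, x = g * a * g⁻¹}

theorem NC_le {P A : Subgroup G} (h : A ≤ P) : NC P A ≤ P := by
  rw [NC, closure_le]
  rintro _ ⟨g, hg, a, ha, rfl⟩
  exact mul_mem (mul_mem hg (h ha)) (inv_mem hg)

theorem le_NC {P A : Subgroup G} : A ≤ NC P A := fun a ha =>
  subset_closure ⟨1, one_mem _, a, ha, by group⟩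

theorem conj_NC {P A : Subgroup G} {g x : G} (hg : g ∈ P) (hx : x ∈ NC P A) : g * x * g⁻¹ ∈ NC P A := by
  have h1 : NC P A ≤ (NC P A).comap (MulAut.conj g).toMonoidHom := by
    conv_lhs => rw [NC]
    rw [closure_le]
    rintro _ ⟨y, hy, a, ha, rfl⟩
    rw [SetLike.mem_coe, mem_comap]
    exact subset_closure ⟨g * y, mul_mem hg hy, a, ha, by
      change g * (y * a * y⁻¹) * g⁻¹ = _
      group⟩
  exact h1 hx

/-- the second parabolic -/
structure Sd (S P' U V' A' : Subgroup G) : Prop where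
  SP : S ≤ P'
  UN : P' ≤ normalizer (U : Set G)
  U2 : IsElementaryAbelian 2 U
  VU : V' ≤ U
  VN : P' ≤ normalizer (V' : Set G)
  PS : ∀ B ≤ S, B ≤ centralizer (V' : Set G) → ∀ h ∈ P', cj h B ≤ S
  AS : A' ≤ S
  tt : Tt U A'
  full : ∀ u ∈ U, ∃ v ∈ V', ∃ c ∈ U, (∀ a ∈ A', a * c = c * a) ∧ u = v * c
  gen : P' ≤ NC P' A' ⊔ S

section first

variable [Finite G] {F : Type} [Field F] [Finite F] [CharP F 2] {S P V D U : Subgroup G} {k : ℕ}
  {M : NatKM F S P V D k} (h : Nb M)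
include h

omit h in
theorem comm_eq {A : Subgroup G} {i : Fin k} (O : One M U A i) {u a : G} (hu : u ∈ U) (ha : a ∈ A) :
    ∃ v ∈ V, a * u * a⁻¹ * u⁻¹ = a * v * a⁻¹ * v⁻¹ := by
  obtain ⟨v, hv, -, c, -, hca, rfl⟩ := O.full u hu
  refine ⟨v, hv, ?_⟩
  have h1 := hca a ha
  calc a * (v * c) * a⁻¹ * (v * c)⁻¹ = a * v * (c * a⁻¹ * c⁻¹) * v⁻¹ := by group
    _ = a * v * a⁻¹ * v⁻¹ := by
      have h2 : c * a⁻¹ * c⁻¹ = a⁻¹ := by
        calc c * a⁻¹ * c⁻¹ = a⁻¹ * (a * c) * a⁻¹ * c⁻¹ := by group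
          _ = a⁻¹ * (c * a) * a⁻¹ * c⁻¹ := by rw [h1]
          _ = a⁻¹ := by group
      rw [h2]

/-- the members of `EE` act as upper unitriangular families -/
theorem exists_up {B : Subgroup G} (hU2 : IsElementaryAbelian 2 U) (hVU : V ≤ U) (hBS : B ≤ S) (tB : Tt U B) {b : G}
    (hb : b ∈ B) : ∃ f : Fin k → F, ActsSL M.e V D b fun l => up (f l) := by
  by_cases hc : B ≤ centralizer (V : Set G)
  · refine ⟨0, fun v hv i => ?_, fun d hd => (mem_centralizer_iff.1 (hc hb) d (h.DV hd)).symm⟩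
    have e : b * v * b⁻¹ = v := by
      rw [← mem_centralizer_iff.1 (hc hb) v hv]
      group
    rw [e]
    simp only [Pi.zero_apply, up_zero, Cfsg.Agent.Omega.NatPair.ap_one]
  · obtain ⟨I, hI1, -⟩ := M.offM B hBS (tB.offM hU2 hVU hc)
    obtain ⟨f, -, hf⟩ := hI1 b hb
    exact ⟨f, hf⟩

/-- all members of `EE` centralise `[U, A]` -/
theorem comm_Y {A B : Subgroup G} {i : Fin k} (O : One M U A i) (hAS : A ≤ S) (hU2 : IsElementaryAbelian 2 U) (hVU : V ≤ U)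
    (hBS : B ≤ S) (tB : Tt U B) {b u a : G} (hb : b ∈ B) (hu : u ∈ U) (ha : a ∈ A) :
    b * (a * u * a⁻¹ * u⁻¹) = a * u * a⁻¹ * u⁻¹ * b := by
  obtain ⟨v, hv, e⟩ := comm_eq O hu ha
  obtain ⟨f, hf⟩ := exists_up h hU2 hVU hBS tB hb
  rw [e]
  exact h.up_cen hAS O hVU (h.SP' (hBS hb)) hf hv ha

end first

namespace Sd

variable [Finite G] {S P' U V' A' : Subgroup G} (d : Sd S P' U V' A')
include d

theorem cU {x y : G} (hx : x ∈ U) (hy : y ∈ U) : x * y = y * x := elem_comm d.U2 hx hy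

theorem memU {g x : G} (hg : g ∈ P') (hx : x ∈ U) : g * x * g⁻¹ ∈ U := conj_mem d.UN hg hx

theorem memV {g x : G} (hg : g ∈ P') (hx : x ∈ V') : g * x * g⁻¹ ∈ V' := conj_mem d.VN hg hx

theorem NP {g : G} (hg : g ∈ NC P' A') : g ∈ P' := NC_le (d.AS.trans d.SP) hg

/-- `[U, N'] ≤ V'` -/
theorem comm_mem {g u : G} (hg : g ∈ NC P' A') (hu : u ∈ U) : g * u * g⁻¹ * u⁻¹ ∈ V' := by
  have key : ∀ g (_ : g ∈ NC P' A'), ∀ u ∈ U, g * u * g⁻¹ * u⁻¹ ∈ V' := by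
    intro g hg
    have hg' : g ∈ closure {x | ∃ g ∈ P', ∃ a ∈ A', x = g * a * g⁻¹} := hg
    induction hg' using closure_induction with
    | mem x hx =>
      obtain ⟨y, hy, a, ha, rfl⟩ := hx
      intro u hu
      have hu1 : y⁻¹ * u * y ∈ U := by
        have := d.memU (inv_mem hy) hu
        rwa [inv_inv] at this
      obtain ⟨v, hv, c, -, hca, e⟩ := d.full _ hu1
      have haP : a ∈ P' := d.SP (d.AS ha)
      have h1 : a * (y⁻¹ * u * y) * a⁻¹ * (y⁻¹ * u * y)⁻¹ ∈ V' := by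
        rw [e]
        have h2 : a * (v * c) * a⁻¹ * (v * c)⁻¹ = a * v * a⁻¹ * (a * c * a⁻¹ * c⁻¹) * v⁻¹ := by group
        rw [h2, hca a ha, mul_inv_cancel_right, mul_inv_cancel, mul_one]
        exact mul_mem (d.memV haP hv) (inv_mem hv)
      have h2 := d.memV hy h1
      have e2 : y * (a * (y⁻¹ * u * y) * a⁻¹ * (y⁻¹ * u * y)⁻¹) * y⁻¹ = y * a * y⁻¹ * u * (y * a * y⁻¹)⁻¹ * u⁻¹ := by
        group
      rwa [e2] at h2
    | one => intro u hu; simp [one_mem]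
    | mul x y hx hy h1 h2 =>
      intro u hu
      have h3 := h1 hx _ (d.memU (d.NP hy) hu)
      have h4 := h2 hy u hu
      have e : x * y * u * (x * y)⁻¹ * u⁻¹ = x * (y * u * y⁻¹) * x⁻¹ * (y * u * y⁻¹)⁻¹ * (y * u * y⁻¹ * u⁻¹) := by group
      rw [e]
      exact mul_mem h3 h4
    | inv x hx h1 =>
      intro u hu
      have hu1 := d.memU (inv_mem (d.NP hx)) hu
      have h3 := inv_mem (h1 hx _ hu1)
      have e : (x * (x⁻¹ * u * x⁻¹⁻¹) * x⁻¹ * (x⁻¹ * u * x⁻¹⁻¹)⁻¹)⁻¹ = x⁻¹ * u * x⁻¹⁻¹ * u⁻¹ := by group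
      rwa [e] at h3
  exact key g hg u hu

variable {F : Type} [Field F] [Finite F] [CharP F 2] {P V D : Subgroup G} {k : ℕ}
  {M : NatKM F S P V D k} (h : Nb M) (hVU : V ≤ U) {A : Subgroup G} {i : Fin k} (O : One M U A i) (hAS : A ≤ S)
  (t : Tt U A) (hA : A ≤ centralizer (V' : Set G))
include hA

omit [Finite G] [Finite F] [CharP F 2] in
theorem a_comm {a v : G} (ha : a ∈ A) (hv : v ∈ V') : a * v = v * a := (mem_centralizer_iff.1 (hA ha) v hv).symm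

/-- `N'` leaves `C_U(A)` invariant -/
theorem cent_conj {g c : G} (hg : g ∈ NC P' A') (hc : c ∈ U) (hca : ∀ a ∈ A, a * c = c * a) {a : G} (ha : a ∈ A) :
    a * (g * c * g⁻¹) = g * c * g⁻¹ * a := by
  have h1 := d.a_comm hA ha (d.comm_mem hg hc)
  have e : g * c * g⁻¹ = g * c * g⁻¹ * c⁻¹ * c := by group
  rw [e]
  exact (show Commute a _ from h1).mul_right (hca a ha)

include h hVU O hAS t

/-- the conjugates of `A` under `N'` act on `U` as `A` -/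
theorem same_conj {g : G} (hg : g ∈ NC P' A') {a : G} (ha : a ∈ A) :
    ∃ b ∈ A, ∀ u ∈ U, a * u * a⁻¹ = g * b * g⁻¹ * u * (g * b * g⁻¹)⁻¹ := by
  have hgP := d.NP hg
  set B : Subgroup G := cj g A with hB
  have hBS : B ≤ S := d.PS A hAS hA g hgP
  have tB : Tt U B := t.cj (d.UN hgP)
  -- `B` centralises `C_U(A)`
  have hBc : ∀ c ∈ U, (∀ a ∈ A, a * c = c * a) → ∀ b ∈ B, b * c = c * b := by
    intro c hc hca b hb
    obtain ⟨a1, ha1, rfl⟩ := exists_of_mem_cj hb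
    have h1 := d.cent_conj hA (inv_mem hg) hc hca ha1
    have h2 := comm_conj (g := g) h1
    have e : g * (g⁻¹ * c * g⁻¹⁻¹) * g⁻¹ = c := by group
    rwa [e] at h2
  have hBc' : ∀ c ∈ U, (∀ b ∈ B, b * c = c * b) → ∀ a ∈ A, a * c = c * a := by
    intro c hc hcb
    have hc1 : g⁻¹ * c * g ∈ U := by
      have := d.memU (inv_mem hgP) hc
      rwa [inv_inv] at this
    have h1 : ∀ a ∈ A, a * (g⁻¹ * c * g) = g⁻¹ * c * g * a := by
      intro a ha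
      have h2 := comm_conj (g := g⁻¹) (hcb _ (mem_cj_of (g := g) ha))
      have e1 : g⁻¹ * (g * a * g⁻¹) * g⁻¹⁻¹ = a := by group
      rw [e1, inv_inv] at h2
      exact h2
    intro a ha
    have h2 := d.cent_conj hA hg hc1 h1 ha
    have e : g * (g⁻¹ * c * g) * g⁻¹ = c := by group
    rwa [e] at h2
  have hBV : ¬ B ≤ centralizer (V : Set G) := by
    intro hBV
    refine tB.ne fun b hb => mem_centralizer_iff.2 fun u hu => ?_
    obtain ⟨v, hv, -, c, hc, hca, rfl⟩ := O.full u hu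
    have h1 : b * v = v * b := (mem_centralizer_iff.1 (hBV hb) v hv).symm
    exact ((show Commute b v from h1).mul_right (hBc c hc hca b hb)).eq.symm
  obtain ⟨j, O'⟩ := tB.one h d.U2 hVU hBS hBV
  have hji : j = i := by
    by_contra hne
    obtain ⟨w, hw, hwi, hwl⟩ := Nb.exists_single M i ![0, 1]
    have h1 : ∀ b ∈ B, b * w = w * b := (O'.cen w hw).2 (by rw [hwl j hne]; rfl)
    have h2 := (O.cen w hw).1 (hBc' w (hVU hw) h1)
    rw [hwi] at h2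
    simp at h2
  subst hji
  obtain ⟨β, hβ⟩ := O.act a ha
  obtain ⟨b, hb, hbβ⟩ := O'.all β
  obtain ⟨a1, ha1, rfl⟩ := exists_of_mem_cj hb
  refine ⟨a1, ha1, fun u hu => ?_⟩
  obtain ⟨v, hv, -, c, hc, hca, rfl⟩ := O.full u hu
  have h1 := h.same (h.SP' (hAS ha)) (h.SP' (hBS hb)) hβ hbβ hv
  have h2 := hca a ha
  have h3 := hBc c hc hca _ hb
  have e1 : ∀ y : G, y * (v * c) * y⁻¹ = y * v * y⁻¹ * (y * c * y⁻¹) := fun y => by group
  rw [e1, e1, h1, h2, h3, mul_inv_cancel_right, mul_inv_cancel_right]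

/-- `A''` and `A` commute on `U` -/
theorem swap_S {B : Subgroup G} (hBS : B ≤ S) (tB : Tt U B) (hBV : ∀ b ∈ B, ∀ u ∈ U, b * u * b⁻¹ * u⁻¹ ∈ V') {a b u : G}
    (ha : a ∈ A) (hb : b ∈ B) (hu : u ∈ U) : b * (a * u * a⁻¹) * b⁻¹ = a * (b * u * b⁻¹) * a⁻¹ := by
  have h1 := comm_Y h O hAS d.U2 hVU hBS tB hb hu ha
  have h2 := d.a_comm hA ha (hBV b hb u hu)
  have haU : a * u * a⁻¹ ∈ U := d.memU (d.SP (hAS ha)) hu
  have hbU : b * u * b⁻¹ ∈ U := d.memU (d.SP (hBS hb)) hu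
  calc b * (a * u * a⁻¹) * b⁻¹ = b * (a * u * a⁻¹ * u⁻¹) * u * b⁻¹ := by group
    _ = a * u * a⁻¹ * u⁻¹ * b * u * b⁻¹ := by rw [h1]
    _ = (a * u * a⁻¹) * (u⁻¹ * (b * u * b⁻¹)) := by group
    _ = (u⁻¹ * (b * u * b⁻¹)) * (a * u * a⁻¹) := d.cU haU (mul_mem (inv_mem hu) hbU)
    _ = ((b * u * b⁻¹) * u⁻¹) * (a * u * a⁻¹) := by rw [d.cU (inv_mem hu) hbU]
    _ = (b * u * b⁻¹ * u⁻¹ * a) * u * a⁻¹ := by group
    _ = (a * (b * u * b⁻¹ * u⁻¹)) * u * a⁻¹ := by rw [h2]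
    _ = a * (b * u * b⁻¹) * a⁻¹ := by group

/-- `N'` and `A` commute on `U` -/
theorem swap {n a u : G} (hn : n ∈ NC P' A') (ha : a ∈ A) (hu : u ∈ U) :
    n * (a * u * a⁻¹) * n⁻¹ = a * (n * u * n⁻¹) * a⁻¹ := by
  have key : ∀ n (_ : n ∈ NC P' A'), ∀ a ∈ A, ∀ u ∈ U, n * (a * u * a⁻¹) * n⁻¹ = a * (n * u * n⁻¹) * a⁻¹ := by
    intro n hn
    have hn' : n ∈ closure {x | ∃ g ∈ P', ∃ a ∈ A', x = g * a * g⁻¹} := hn
    induction hn' using closure_induction with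
    | mem x hx =>
      obtain ⟨y, hy, a', ha', rfl⟩ := hx
      intro a ha u hu
      -- `y = m s`
      have hy2 : y ∈ ((NC P' A' ⊔ S : Subgroup G) : Set G) := d.gen hy
      have hSN : S ≤ normalizer (NC P' A' : Set G) := fun s hs => mem_normalizer_iff.2 fun x =>
        ⟨fun hx => conj_NC (d.SP hs) hx, fun hx => by
          have h1 := conj_NC (inv_mem (d.SP hs)) hx
          have e : s⁻¹ * (s * x * s⁻¹) * s⁻¹⁻¹ = x := by group
          rwa [e] at h1⟩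
      rw [coe_mul_of_right_le_normalizer_left _ _ hSN] at hy2
      obtain ⟨m, hm, s, hs, rfl⟩ := hy2
      have hm' : m ∈ NC P' A' := hm
      have hs' : s ∈ S := hs
      have hmP := d.NP hm'
      set b : G := s * a' * s⁻¹ with hb
      have hbS : cj s A' ≤ S := by
        intro z hz
        obtain ⟨z1, hz1, rfl⟩ := exists_of_mem_cj hz
        exact mul_mem (mul_mem hs' (d.AS hz1)) (inv_mem hs')
      have tb : Tt U (cj s A') := d.tt.cj (d.UN (d.SP hs'))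
      have hbV : ∀ b ∈ cj s A', ∀ u ∈ U, b * u * b⁻¹ * u⁻¹ ∈ V' := by
        intro z hz u hu
        obtain ⟨z1, hz1, rfl⟩ := exists_of_mem_cj hz
        exact d.comm_mem (conj_NC (d.SP hs') (le_NC hz1)) hu
      obtain ⟨a1, ha1, hau⟩ := d.same_conj h hVU O hAS t hA hm' ha
      have hu1 : m⁻¹ * u * m ∈ U := by
        have := d.memU (inv_mem hmP) hu
        rwa [inv_inv] at this
      have h1 := d.swap_S h hVU O hAS t hA hbS tb hbV ha1 (mem_cj_of (g := s) ha') hu1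
      have hbP : b ∈ P' := mul_mem (mul_mem (d.SP hs') (d.SP (d.AS ha'))) (inv_mem (d.SP hs'))
      have hxu : m * b * m⁻¹ * u * (m * b * m⁻¹)⁻¹ ∈ U :=
        d.memU (mul_mem (mul_mem hmP hbP) (inv_mem hmP)) hu
      have e0 : m * s * a' * (m * s)⁻¹ = m * b * m⁻¹ := by rw [hb]; group
      rw [e0, hau u hu, hau _ hxu]
      calc m * b * m⁻¹ * (m * a1 * m⁻¹ * u * (m * a1 * m⁻¹)⁻¹) * (m * b * m⁻¹)⁻¹ =
          m * (b * (a1 * (m⁻¹ * u * m) * a1⁻¹) * b⁻¹) * m⁻¹ := by group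
        _ = m * (a1 * (b * (m⁻¹ * u * m) * b⁻¹) * a1⁻¹) * m⁻¹ := by rw [h1]
        _ = _ := by group
    | one => intro a _ u _; group
    | mul x y hx hy h1 h2 =>
      intro a ha u hu
      have h3 := h2 hy a ha u hu
      have h4 := h1 hx a ha _ (d.memU (d.NP hy) hu)
      calc x * y * (a * u * a⁻¹) * (x * y)⁻¹ = x * (y * (a * u * a⁻¹) * y⁻¹) * x⁻¹ := by group
        _ = x * (a * (y * u * y⁻¹) * a⁻¹) * x⁻¹ := by rw [h3]
        _ = a * (x * (y * u * y⁻¹) * x⁻¹) * a⁻¹ := h4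
        _ = _ := by group
    | inv x hx h1 =>
      intro a ha u hu
      have h3 := h1 hx a ha _ (d.memU (inv_mem (d.NP hx)) hu)
      have e : x * (x⁻¹ * u * x⁻¹⁻¹) * x⁻¹ = u := by group
      rw [e] at h3
      rw [← h3]
      group
  exact key n hn a ha u hu

/-- **(1)** -/
theorem cent_comm {n a u : G} (hn : n ∈ NC P' A') (ha : a ∈ A) (hu : u ∈ U) :
    n * (a * u * a⁻¹ * u⁻¹) = a * u * a⁻¹ * u⁻¹ * n := by
  have h1 := d.swap h hVU O hAS t hA hn ha hu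
  have h2 := d.a_comm hA ha (d.comm_mem hn hu)
  have haU : a * u * a⁻¹ ∈ U := d.memU (d.SP (hAS ha)) hu
  have hnU : n * u * n⁻¹ ∈ U := d.memU (d.NP hn) hu
  have h3 : n * (a * u * a⁻¹ * u⁻¹) * n⁻¹ = a * u * a⁻¹ * u⁻¹ := by
    calc n * (a * u * a⁻¹ * u⁻¹) * n⁻¹ = (n * (a * u * a⁻¹) * n⁻¹) * (n * u * n⁻¹)⁻¹ := by group
      _ = (a * (n * u * n⁻¹) * a⁻¹) * (n * u * n⁻¹)⁻¹ := by rw [h1]
      _ = (a * (n * u * n⁻¹ * u⁻¹)) * u * a⁻¹ * (n * u * n⁻¹)⁻¹ := by group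
      _ = (n * u * n⁻¹ * u⁻¹ * a) * u * a⁻¹ * (n * u * n⁻¹)⁻¹ := by rw [h2]
      _ = (n * u * n⁻¹) * (u⁻¹ * (a * u * a⁻¹)) * (n * u * n⁻¹)⁻¹ := by group
      _ = (u⁻¹ * (a * u * a⁻¹)) * (n * u * n⁻¹) * (n * u * n⁻¹)⁻¹ := by
        rw [d.cU hnU (mul_mem (inv_mem hu) haU)]
      _ = u⁻¹ * (a * u * a⁻¹) := by group
      _ = a * u * a⁻¹ * u⁻¹ := d.cU (inv_mem hu) haU
  exact mul_inv_eq_iff_eq_mul.1 h3

end Sd

end Cfsg.Agent.Omega.NOThreeL.RRed.NS
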