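import Cfsg.Agent.Omega.NOThreeL.RRed.NS.Gd

/-!
# THEOREM NS (#24102)

`P, P' ∈ P*(S)` normalise the elementary abelian group `U ≥ Z`, members `A₀, A'` of `EE = {A ≤ S : Tt U A}` move `V_P`
resp. `V_P'`, `V_P` is of natural type over `F`, `|F| > 2`.

* `iSup_DD` : `x ∈ ⨆ blk M j`, `x ∈ D` ⟹ `x ∈ ⨆ DD M j`;
* `swap_of` : if `P'` moves some `x ∈ Z ∩ D ∩ ⨆ blk M j`, then `P'` is natural and `Swap` holds.
-/

set_option autoImplicit false
set_option linter.unusedSectionVars false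

namespace Cfsg.Agent.Omega.NOThreeL.RRed.NS

open Subgroup Cfsg Cfsg.Agent.ZN Cfsg.Agent.ZN.ChoiceBase Cfsg.Agent.Omega.MinPar
open Cfsg.Agent.Omega.FFThm (NatKM SymKM OffM ElemM NoOverM StmtM ConclM syl_of_sylow)
open Cfsg.Agent.Omega.FrameFF (cv)
open Cfsg.Agent.Omega.NO3S.ThmB Cfsg.Agent.Omega.NO3S.KeyRad

universe u

section mod

variable {G : Type u} [Group G] {F : Type} [Field F] {S P V D : Subgroup G} {k : ℕ} {M : NatKM F S P V D k} (h : Nb M)
include h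

theorem iSup_DD [CharP F 2] {x : G} (hx : x ∈ ⨆ j, blk M j) (hxD : x ∈ D) : x ∈ ⨆ j, DD M j := by
  classical
  have key : ∀ s : Finset (Fin k), ∀ x ∈ ⨆ j ∈ s, blk M j, M.e x = 0 → x ∈ ⨆ j, DD M j := by
    intro s
    induction s using Finset.induction_on with
    | empty =>
      intro x hx _
      have h1 : x = 1 := by simpa using hx
      rw [h1]
      exact one_mem _
    | insert a s ha ih =>
      intro x hx h0
      have hW : ∀ j, blk M j ≤ blk M j := fun j => le_rfl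
      obtain ⟨y, hy, r, hr, rfl⟩ := iSup_insert_mem h hW hx
      obtain ⟨hrV, hra⟩ := iSup_blk_e h ha hW hr
      have hyV := blk_le h a hy
      have h1 := congrFun h0 a
      rw [M.mul _ hyV _ hrV, Pi.add_apply, hra, add_zero] at h1
      have hyD : y ∈ DD M a := (mem_DD h hy).2 h1
      have h2 : M.e y = 0 := (M.ker y hyV).2 hyD.2
      rw [M.mul _ hyV _ hrV, h2, zero_add] at h0
      exact mul_mem ((le_iSup (DD M) a : DD M a ≤ _) hyD) (ih r hr h0)
  have hxV : x ∈ V := (iSup_le fun j => blk_le h j : (⨆ j, blk M j) ≤ V) hx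
  refine key Finset.univ x (by simpa using hx) ((M.ker x hxV).2 hxD)

end mod

variable {G : Type u} [Group G] [Finite G] {S : Sylow 2 G} {P P' U : Subgroup G}

/-- **(1), (2)** -/
theorem swap_of (hG : IsCharacteristicTwoType G) (hFF : StmtM.{u}) (hP : IsParS (S : Subgroup G) P)
    (hP' : IsParS (S : Subgroup G) P') (hU2 : IsElementaryAbelian 2 U) (hPU : P ≤ normalizer (U : Set G))
    (hP'U : P' ≤ normalizer (U : Set G)) (hZU : zc (S : Subgroup G) ≤ U) {F : Type} [Field F] [Finite F] [CharP F 2]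
    {k : ℕ} (M : NatKM F (S : Subgroup G) P (zl (S : Subgroup G) P) (cv (S : Subgroup G) P) k) (hF : 2 < Nat.card F)
    {A₀ : Subgroup G} (hA₀S : A₀ ≤ S) (t₀ : Tt U A₀) (hne₀ : ¬ A₀ ≤ centralizer (zl (S : Subgroup G) P : Set G))
    {A' : Subgroup G} (hA'S : A' ≤ S) (t' : Tt U A') (hne' : ¬ A' ≤ centralizer (zl (S : Subgroup G) P' : Set G))
    {x : G} (hx : x ∈ ⨆ j, DD M j) (hxS : ∀ s ∈ S, s * x = x * s) {y : G} (hy : y ∈ P') (hyx : y * x ≠ x * y) :
    ∃ (F' : Type) (_ : Field F') (_ : Finite F') (_ : CharP F' 2) (k' : ℕ)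
      (M' : NatKM F' (S : Subgroup G) P' (zl (S : Subgroup G) P') (cv (S : Subgroup G) P') k')
      (h : Nb M) (h' : Nb M') (l g : Fin k → F → G) (l' g' : Fin k' → F' → G) (C : ∀ j, Cd M j (l j) (g j))
      (C' : ∀ j, Cd M' j (l' j) (g' j)), Swap M M' h h' U C C' := by
  have gd := gd_of hG hFF hP hU2 hPU hZU
  have gd' := gd_of hG hFF hP' hU2 hP'U hZU
  have h := Inst.nb hG hP M
  obtain ⟨i, O⟩ := t₀.one h hU2 gd.VU hA₀S hne₀
  have hmv := gd'.moves h hF gd.VU hPU hA'S t' hne' hx hxS hy hyx hA₀S t₀ hne₀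
  obtain ⟨F', i1, i2, i3, k', ⟨M'⟩⟩ := nat_of hG hFF hP' hU2 hP'U hZU hA₀S t₀ hmv gd.VU O hF
  have h' := Inst.nb hG hP' M'
  obtain ⟨i', O'⟩ := t₀.one h' hU2 gd'.VU hA₀S hmv
  have hc : Nat.card F = Nat.card F' :=
    le_antisymm (card_le_of_one h' O O' (hA₀S.trans hP'.le) gd.VU) (card_le_of_one h O' O (hA₀S.trans hP.le) gd'.VU)
  have hF' : 2 < Nat.card F' := hc ▸ hF
  choose l g C using fun j => exists_cd h hF j
  choose l' g' C' using fun j => exists_cd h' hF' j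
  exact ⟨F', i1, i2, i3, k', M', h, h', l, g, l', g', C, C',
    two h h' C C' S.isPGroup' hF gd gd' hA₀S t₀ hne₀ hA'S t' hne' hx hxS hy hyx⟩

end Cfsg.Agent.Omega.NOThreeL.RRed.NS
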