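import Cfsg.Agent.Omega.NOThreeL.RRed.NS.Min
import Cfsg.Agent.Omega.NO3S.ThmB.SymA

/-!
# THEOREM NS (#24102), part (E): the symmetric type

* `Tt.oneS` (copy of `ThmB.Sb.one`): a smallest best offender on `U`, which moves the symmetric module `V ≤ U`, acts as one
  transposition;
* `One.not_oneS` : it does not act as a full root group over `F`, `|F| > 2`, elsewhere.
-/

set_option autoImplicit false
set_option linter.unusedSectionVars false

namespace Cfsg.Agent.Omega.NOThreeL.RRed.NS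

open Subgroup Cfsg Cfsg.Agent.ZN Cfsg.Agent.ZN.ChoiceBase
open Cfsg.Agent.Omega.FFThm Cfsg.Agent.Omega.NatPair Cfsg.Agent.Lib.SL2Mat
open Cfsg.Agent.Omega.NO3S.ThmB Cfsg.Agent.Omega.NO3S.ThmB.Sb

universe u

section sym

variable {G : Type u} [Group G] {S P' V D : Subgroup G} {k m : ℕ} {M : SymKM S P' V D k m}

/-- the elements of an offender -/
theorem off_elem' [Finite G] {B : Subgroup G} (hBS : B ≤ S) (ho : OffM V B) {g : G} (hg : g ∈ B) :
    ∃ τ : Fin k → Equiv.Perm (Fin (2 ^ m + 1)), Ac M g τ ∧ (∀ i, τ i 0 = 0) ∧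
      ∀ i x, τ i x ≠ x → τ i (τ i x) = x ∧ ∃ b ∈ B, Ac M b (pr i x (τ i x)) := by
  obtain ⟨h1, h2⟩ := M.offM B hBS ho
  obtain ⟨τ, hτ, hτ'⟩ := h2 g hg
  refine ⟨τ, ⟨hτ, h1 g hg⟩, M.fix0 g (hBS hg) 1 τ hτ, fun i x hx => ?_⟩
  obtain ⟨h3, b, hb, hbA⟩ := hτ' i x hx
  exact ⟨h3, b, hb, hbA, h1 b hb⟩

variable (h : Sb M)
include h

/-- an element of an offender preserves the transpositions of `S` -/
theorem keep' [Finite G] {B : Subgroup G} (hBS : B ≤ S) {τ : Fin k → Equiv.Perm (Fin (2 ^ m + 1))}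
    (hτ : ∀ i x, τ i x ≠ x → τ i (τ i x) = x ∧ ∃ b ∈ B, Ac M b (pr i x (τ i x)))
    {t : G} (ht : t ∈ S) {i : Fin k} {x y : Fin (2 ^ m + 1)} (hxy : x ≠ y) (htA : ActsSym M.e V t 1 (pr i x y)) :
    (τ i x = x ∧ τ i y = y) ∨ (τ i x = y ∧ τ i y = x) := by
  have hx : τ i x = x ∨ τ i x = y := by
    by_cases hx : τ i x = x
    · exact Or.inl hx
    · obtain ⟨-, b, hb, hbA⟩ := hτ i x hx
      exact Or.inr (h.disj ht (hBS hb) (Ne.symm hxy) hx htA hbA.1).symm
  have hy : τ i y = y ∨ τ i y = x := by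
    by_cases hy : τ i y = y
    · exact Or.inl hy
    · obtain ⟨-, b, hb, hbA⟩ := hτ i y hy
      have htA' : ActsSym M.e V t 1 (pr i y x) := by rwa [pr, Equiv.swap_comm] at htA
      exact Or.inr (h.disj ht (hBS hb) hxy hy htA' hbA.1).symm
  rcases hx with hx | hx <;> rcases hy with hy | hy
  · exact Or.inl ⟨hx, hy⟩
  · exact absurd ((τ i).injective (hx.trans hy.symm)) hxy
  · exact absurd ((τ i).injective (hx.trans hy.symm)) hxy
  · exact Or.inr ⟨hx, hy⟩

/-- **(E), symmetric type** (copy of `Sb.one`) -/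
theorem Tt.oneS [Finite G] {U A : Subgroup G} (tt : Tt U A) (hU2 : IsElementaryAbelian 2 U) (hVU : V ≤ U)
    (hAS : A ≤ S) (hnc : ¬ A ≤ centralizer (V : Set G)) : ∃ i x y t n0, OneS M U A i x y t n0 := by
  have hAP : A ≤ P' := hAS.trans h.SP'
  -- a transposition
  obtain ⟨i, x, y, t, hxy, hx0, hy0, htA, htt⟩ : ∃ i x y, ∃ t, x ≠ y ∧ x ≠ 0 ∧ y ≠ 0 ∧ t ∈ A ∧ Ac M t (pr i x y) := by
    by_contra hne
    push Not at hne
    refine hnc fun a ha => mem_centralizer_iff.2 fun v hv => ?_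
    obtain ⟨τ, hτ, h0, hτ'⟩ := off_elem' hAS (tt.offM hU2 hVU hnc) ha
    have h1 : τ = 1 := by
      funext i
      ext1 x
      by_contra hx
      have hx' : τ i x ≠ x := hx
      obtain ⟨-, b, hb, hbA⟩ := hτ' i x hx'
      have hx0 : x ≠ 0 := fun e => hx' (by rw [e, h0])
      have hy0 : τ i x ≠ 0 := fun e => hx0 ((τ i).injective (by rw [e, h0]))
      exact hne i x (τ i x) b (Ne.symm hx') hx0 hy0 hb hbA
    rw [h1] at hτ
    exact (h.comm_of_one (hAP ha) hτ hv).symm
  obtain ⟨n0, hn, hne, hfix⟩ := h.nx (i := i) hxy hx0 hy0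
  have htP := hAP htA
  have hpx : pr i x y i x = y := by rw [pr, sg_self, Equiv.swap_apply_left]
  have hpy : pr i x y i y = x := by rw [pr, sg_self, Equiv.swap_apply_right]
  have hp0 : pr i x y i 0 = 0 := by
    rw [pr, sg_self, Equiv.swap_apply_of_ne_of_ne (Ne.symm hx0) (Ne.symm hy0)]
  have htn : M.e (t * n0 * t⁻¹) = dl i y + dl i 0 := by rw [e_pair htt.1 hn hne, hpx, hp0]
  have htn' : t * n0 * t⁻¹ ≠ n0 := fun e => by
    rw [e, hne] at htn
    have h1 := congrFun (congrFun htn i) x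
    rw [Pi.add_apply, Pi.add_apply, Pi.add_apply, Pi.add_apply, dl_self, dl_ne i hx0, dl_ne i hxy] at h1
    simp at h1
  -- `C_V(A)`
  have hcen : ∀ v ∈ V, (∀ a ∈ A, a * v = v * a) → M.e v i x = M.e v i y := fun v hv hc => by
    have h1 := htt.1 v hv i x
    have h2 : t * v * t⁻¹ = v := by rw [hc t htA]; group
    rw [h2, hpx] at h1
    exact h1.symm
  -- every element of `A`
  have hel : ∀ a ∈ A, a * n0 = n0 * a ∨ (t⁻¹ * a) * n0 = n0 * (t⁻¹ * a) := by
    intro a ha
    obtain ⟨τ, hτ, h0, hτ'⟩ := off_elem' hAS (tt.offM hU2 hVU hnc) ha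
    rcases keep' h hAS hτ' (hAS htA) hxy htt.1 with ⟨h1, h2⟩ | ⟨h1, h2⟩
    · exact Or.inl (hfix a (hAP ha) τ hτ h1 h2 (h0 i))
    · right
      have h3 := h.ac_mul (hAP ha) (h.ac_inv htP htt) hτ
      have e : ((pr i x y)⁻¹ * τ) i = Equiv.swap x y * τ i := by
        rw [Pi.mul_apply, Pi.inv_apply, pr, sg_self, Equiv.swap_inv]
      refine hfix _ (mul_mem (inv_mem htP) (hAP ha)) _ h3 ?_ ?_ ?_
      · rw [e, Equiv.Perm.mul_apply, h1, Equiv.swap_apply_right]
      · rw [e, Equiv.Perm.mul_apply, h2, Equiv.swap_apply_left]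
      · rw [e, Equiv.Perm.mul_apply, h0 i, Equiv.swap_apply_of_ne_of_ne (Ne.symm hx0) (Ne.symm hy0)]
  let B : Subgroup G := A ⊓ centralizer ({n0} : Set G)
  have hBmem : ∀ a, a ∈ B ↔ a ∈ A ∧ a * n0 = n0 * a := fun a => by
    rw [mem_inf, mem_centralizer_singleton_iff]
  have hBA : B ≤ A := inf_le_left
  have h1B : A ⊓ centralizer (U : Set G) ≤ B := fun a ha =>
    (hBmem a).2 ⟨ha.1, (mem_centralizer_iff.1 ha.2 n0 (hVU hn)).symm⟩
  have hBne : B ≠ A := fun e => by
    have h1 : t ∈ B := by rw [e]; exact htA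
    exact htn' (by rw [((hBmem t).1 h1).2]; group)
  -- `|A| ≤ 2 |B|`
  have hcA : Nat.card A ≤ 2 * Nat.card B := by
    classical
    have h1 : Nat.card A ≤ Nat.card Bool * Nat.card B := by
      refine card_le_of_map (fun a => decide (a * n0 = n0 * a)) fun a ha a' ha' he => ?_
      have he' : (a * n0 = n0 * a) ↔ (a' * n0 = n0 * a') := decide_eq_decide.1 he
      refine (hBmem _).2 ⟨mul_mem (inv_mem ha) ha', ?_⟩
      by_cases hc : a * n0 = n0 * a
      · exact ((show Commute a n0 from hc).inv_left).mul_left (he'.1 hc)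
      · have h2 : Commute (t⁻¹ * a) n0 := (hel a ha).resolve_left hc
        have h3 : Commute (t⁻¹ * a') n0 := (hel a' ha').resolve_left fun h => hc (he'.2 h)
        have h4 := h2.inv_left.mul_left h3
        have e : (t⁻¹ * a)⁻¹ * (t⁻¹ * a') = a⁻¹ * a' := by group
        rw [e] at h4
        exact h4
    rwa [Nat.card_eq_fintype_card (α := Bool), Fintype.card_bool] at h1
  -- `2 |C_U(A)| ≤ |C_U(B)|`
  let f : Bool → G := fun b => if b then n0 else 1
  have hfU : ∀ b, f b ∈ U := fun b => by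
    cases b
    · exact one_mem _
    · exact hVU hn
  have hinj : ∀ b c b' c', c ∈ U → (∀ a ∈ A, a * c = c * a) → c' ∈ U → (∀ a ∈ A, a * c' = c' * a) →
      f b * c = f b' * c' → b = b' ∧ c = c' := by
    intro b c b' c' hc hca hc' hca' e
    have key : ∀ c c' : G, (∀ a ∈ A, a * c = c * a) → (∀ a ∈ A, a * c' = c' * a) → n0 * c = c' → False := by
      intro c c' h1 h2 h3
      have h4 : Commute t (n0 * c) := by rw [h3]; exact h2 t htA
      have h5 : Commute t (n0 * c * c⁻¹) := h4.mul_right ((show Commute t c from h1 t htA).inv_right)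
      rw [mul_inv_cancel_right] at h5
      exact htn' (by rw [h5.eq]; group)
    cases b <;> cases b'
    · simp only [f] at e
      exact ⟨rfl, by simpa using e⟩
    · simp only [f] at e
      exact (key c' c hca' hca (by simpa using e.symm)).elim
    · simp only [f] at e
      exact (key c c' hca hca' (by simpa using e)).elim
    · simp only [f] at e
      exact ⟨rfl, by simpa using e⟩
  have hcU : 2 * Nat.card ↥(U ⊓ centralizer (A : Set G)) ≤ Nat.card ↥(U ⊓ centralizer (B : Set G)) := by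
    have h2 : (2 : ℕ) = Nat.card Bool := by rw [Nat.card_eq_fintype_card, Fintype.card_bool]
    rw [h2, ← Nat.card_prod]
    refine Nat.card_le_card_of_injective
      (fun p : Bool × ↥(U ⊓ centralizer (A : Set G)) =>
        (⟨f p.1 * p.2, mul_mem ⟨hfU _, ?_⟩ ?_⟩ : ↥(U ⊓ centralizer (B : Set G)))) fun p q e => ?_
    · refine mem_centralizer_iff.2 fun a ha => ?_
      cases p.1
      · simp [f]
      · simpa [f] using ((hBmem a).1 ha).2
    · exact ⟨p.2.2.1, mem_centralizer_iff.2 fun a ha => mem_centralizer_iff.1 p.2.2.2 a (hBA ha)⟩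
    · have h1 := hinj p.1 p.2 q.1 q.2 p.2.2.1 (mem_centralizer_iff.1 p.2.2.2) q.2.2.1
        (mem_centralizer_iff.1 q.2.2.2) (congrArg Subtype.val e)
      exact Prod.ext h1.1 (Subtype.ext h1.2)
  have hBU : B ≤ centralizer (U : Set G) := by
    refine tt.cut h1B hBA hBne ?_
    calc Nat.card A * Nat.card ↥(U ⊓ centralizer (A : Set G)) ≤
        2 * Nat.card B * Nat.card ↥(U ⊓ centralizer (A : Set G)) := Nat.mul_le_mul_right _ hcA
      _ = Nat.card B * (2 * Nat.card ↥(U ⊓ centralizer (A : Set G))) := by ring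
      _ ≤ _ := Nat.mul_le_mul_left _ hcU
  have hUB : U ⊓ centralizer (B : Set G) = U := inf_eq_left.2 (le_centralizer_iff.1 hBU)
  have hUc : Nat.card U ≤ 2 * Nat.card ↥(U ⊓ centralizer (A : Set G)) := by
    have h1 := tt.best h1B hBA
    rw [hUB] at h1
    have hp : 0 < Nat.card B := Nat.card_pos
    refine Nat.le_of_mul_le_mul_left ?_ hp
    calc Nat.card B * Nat.card U ≤ Nat.card A * Nat.card ↥(U ⊓ centralizer (A : Set G)) := h1
      _ ≤ 2 * Nat.card B * Nat.card ↥(U ⊓ centralizer (A : Set G)) := Nat.mul_le_mul_right _ hcA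
      _ = _ := by ring
  have hfull : ∀ u ∈ U, (∀ a ∈ A, a * u = u * a) ∨ ∀ a ∈ A, a * (n0⁻¹ * u) = (n0⁻¹ * u) * a := by
    let F : Bool × ↥(U ⊓ centralizer (A : Set G)) → U := fun p => ⟨f p.1 * p.2, mul_mem (hfU _) p.2.2.1⟩
    have hF : Function.Injective F := fun p q e => by
      have h1 := hinj p.1 p.2 q.1 q.2 p.2.2.1 (mem_centralizer_iff.1 p.2.2.2) q.2.2.1
        (mem_centralizer_iff.1 q.2.2.2) (congrArg Subtype.val e)
      exact Prod.ext h1.1 (Subtype.ext h1.2)
    have hb := hF.bijective_of_nat_card_le (by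
      rw [Nat.card_prod, Nat.card_eq_fintype_card (α := Bool), Fintype.card_bool]
      exact hUc)
    intro u hu
    obtain ⟨⟨b, c⟩, hp⟩ := hb.2 ⟨u, hu⟩
    have hp' : f b * c = u := congrArg Subtype.val hp
    cases b
    · left
      have : u = c := by rw [← hp']; simp [f]
      rw [this]
      exact mem_centralizer_iff.1 c.2.2
    · right
      have : n0⁻¹ * u = c := by rw [← hp']; simp [f]
      rw [this]
      exact mem_centralizer_iff.1 c.2.2
  refine ⟨i, x, y, t, n0, ⟨hxy, hx0, hy0, hAS, htA, htt, fun a ha => ?_, hn, hne, hfull,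
    fun v hv => ⟨hcen v hv, fun he => ?_⟩, hfix⟩⟩
  · rcases hel a ha with h1 | h1
    · exact Or.inl (hBU ((hBmem a).2 ⟨ha, h1⟩))
    · exact Or.inr (hBU ((hBmem _).2 ⟨mul_mem (inv_mem htA) ha, h1⟩))
  · rcases hfull v (hVU hv) with h1 | h1
    · exact h1
    · exfalso
      have h2 := hcen _ (mul_mem (inv_mem hn) hv) h1
      rw [M.mul _ (inv_mem hn) _ hv, h.e_inv hn, hne] at h2
      simp only [Pi.add_apply] at h2
      rw [dl_self, dl_ne i hx0, dl_ne i (Ne.symm hxy), dl_ne i hy0, he, add_zero, add_zero, zero_add] at h2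
      have h3 := add_right_cancel (h2.trans (zero_add _).symm)
      exact one_ne_zero h3

end sym

section no

variable {G : Type u} [Group G] {F : Type} [Field F] {S P V D : Subgroup G} {k : ℕ}

/-- Not both types over one `A`, if `|F| > 2`. -/
theorem One.not_oneS [Finite F] (hF : 2 < Nat.card F) {M : NatKM F S P V D k} {U A : Subgroup G} {j : Fin k}
    (O : One M U A j) (hVU : V ≤ U) {S' P' V' D' : Subgroup G} {k' m : ℕ} {M' : SymKM S' P' V' D' k' m}
    {i : Fin k'} {x y : Fin (2 ^ m + 1)} {t n0 : G} (O' : OneS M' U A i x y t n0) : False := by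
  obtain ⟨ω, hω0, hω1⟩ : ∃ ω : F, ω ≠ 0 ∧ ω ≠ 1 := by
    by_contra hcon
    push Not at hcon
    have hs : (Set.univ : Set F) ⊆ {0, 1} := by
      intro x _
      rcases eq_or_ne x 0 with h | h
      · exact Or.inl h
      · exact Or.inr (hcon x h)
    have h3 := Set.ncard_le_ncard hs (Set.toFinite _)
    rw [Set.ncard_univ, Set.ncard_pair zero_ne_one] at h3
    omega
  obtain ⟨v, hv, hvj, -⟩ := Nb.exists_single M j ![0, 1]
  have key : ∀ a β, ActsSL M.e V D a (sg j (up β)) → M.e (a * v * a⁻¹) j 0 = β := by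
    intro a β ha
    rw [ha.1 v hv j, sg_self, hvj, ap_up_0]
    simp
  have hcen : ∀ a, a ∈ centralizer (U : Set G) → a * v * a⁻¹ = v := fun a ha => by
    rw [← mem_centralizer_iff.1 ha v (hVU hv), mul_inv_cancel_right]
  obtain ⟨a, ha, haA⟩ := O.all 1
  obtain ⟨b, hb, hbA⟩ := O.all ω
  have h1 : t⁻¹ * a ∈ centralizer (U : Set G) := (O'.act a ha).resolve_left fun h1 => by
    have h2 := key a 1 haA
    rw [hcen a h1, hvj] at h2
    simp at h2
  have h2 : t⁻¹ * b ∈ centralizer (U : Set G) := (O'.act b hb).resolve_left fun h1 => by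
    have h2 := key b ω hbA
    rw [hcen b h1, hvj] at h2
    exact hω0 (by simpa using h2.symm)
  have h3 : b⁻¹ * a ∈ centralizer (U : Set G) := by
    have e : b⁻¹ * a = (t⁻¹ * b)⁻¹ * (t⁻¹ * a) := by group
    rw [e]
    exact mul_mem (inv_mem h2) h1
  have h4 : a * v * a⁻¹ = b * v * b⁻¹ := by
    have h5 := hcen _ h3
    calc a * v * a⁻¹ = b * (b⁻¹ * a * v * (b⁻¹ * a)⁻¹) * b⁻¹ := by group
      _ = b * v * b⁻¹ := by rw [h5]
  have h5 := key a 1 haA
  rw [h4, key b ω hbA] at h5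
  exact hω1 h5

end no

end Cfsg.Agent.Omega.NOThreeL.RRed.NS
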