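import Cfsg.Agent.Omega.NOThreeL.RRed.NS.Mod
import Cfsg.Agent.Omega.NO3S.KeyRad.Lin
import Cfsg.Agent.Omega.NO3S.ThmB.NatA

/-!
# THEOREM NS (#24102): the blocks of a natural module with a radical

`M : NatKM F S P V D k`, `h : Nb M`, `|F| > 2`; `blk M j = [V, L_j]`, `D_j = blk M j ∩ D`.

* `Cd M j l g` : coordinates: `l s ∈ blk M j` over `(s, 0)`, `g x ∈ D_j`, `l`, `g` additive, `g` ONTO `D_j`, and
  `[c, v] = l (β t) g (β t²)` if `c` acts as `up β` on the summand `j` (as `1` on `D` and the others), `t = e v j 1`;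
* `exists_cd`;
* `YY M j = {w ∈ blk M j : e w j 1 = 0}` : `Cd.exists_eq` : `w = l s · d`, `d ∈ D_j`;
* `Cd.l_inj`, `Cd.cov` : the covered vectors.
-/

set_option autoImplicit false
set_option linter.unusedSectionVars false

namespace Cfsg.Agent.Omega.NOThreeL.RRed.NS

open Subgroup Cfsg Cfsg.Agent.ZN Cfsg.Agent.ZN.ChoiceBase
open Cfsg.Agent.Omega.FFThm Cfsg.Agent.Omega.NatPair Cfsg.Agent.Lib.SL2Mat
open Cfsg.Agent.Omega.NO3S.ThmB Cfsg.Agent.Omega.NO3S.KeyRad

universe u

variable {G : Type u} [Group G] {F : Type} [Field F] {S P V D : Subgroup G} {k : ℕ}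

/-- coordinates of the block `j` -/
structure Cd (M : NatKM F S P V D k) (j : Fin k) (l g : F → G) : Prop where
  lm : ∀ s, l s ∈ blk M j
  le : ∀ s, M.e (l s) j = ![s, 0]
  la : ∀ s t, l (s + t) = l s * l t
  gm : ∀ x, g x ∈ blk M j
  gD : ∀ x, g x ∈ D
  ga : ∀ x y, g (x + y) = g x * g y
  gs : ∀ d ∈ blk M j, d ∈ D → ∃ x, g x = d
  cm : ∀ c ∈ P, ∀ β, ActsSL M.e V D c (sg j (up β)) → ∀ v ∈ V,
    c * v * c⁻¹ * v⁻¹ = l (β * M.e v j 1) * g (β * M.e v j 1 ^ 2)

section ex

variable [Finite G] [Finite F] [CharP F 2] {M : NatKM F S P V D k} (h : Nb M)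
include h

theorem exists_cd (hF : 2 < Nat.card F) (j : Fin k) : ∃ l g, Cd M j l g := by
  classical
  have hXU := blk_le h j
  let _ : CommGroup (blk M j) :=
    { (inferInstance : Group (blk M j)) with mul_comm := fun a b => Subtype.ext (h.cm (hXU a.2) (hXU b.2)) }
  choose lf hlfP hlfA using fun A : Matrix.SpecialLinearGroup (Fin 2) F => M.lift (sg j A)
  have hcX : ∀ A, ∀ m ∈ blk M j, lf A * m * (lf A)⁻¹ ∈ blk M j := by
    intro A m hm
    have e : lf A * m * (lf A)⁻¹ = lf A * m * (lf A)⁻¹ * m⁻¹ * m := by group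
    rw [e]
    exact mul_mem (mem_blk (hlfP A) (hlfA A) (hXU hm)) hm
  let ρ0 : Matrix.SpecialLinearGroup (Fin 2) F → (blk M j →* blk M j) := fun A =>
    { toFun := fun m => ⟨lf A * m * (lf A)⁻¹, hcX A m m.2⟩
      map_one' := Subtype.ext (by simp)
      map_mul' := fun x y => Subtype.ext (by
        change lf A * ((x : G) * y) * (lf A)⁻¹ = lf A * x * (lf A)⁻¹ * (lf A * y * (lf A)⁻¹)
        group) }
  let ρ : Matrix.SpecialLinearGroup (Fin 2) F → (Additive (blk M j) →+ Additive (blk M j)) := fun A =>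
    MonoidHom.toAdditive (ρ0 A)
  have hρv : ∀ A (m : Additive (blk M j)), ((Additive.toMul (ρ A m) : blk M j) : G) =
      lf A * ((Additive.toMul m : blk M j) : G) * (lf A)⁻¹ := fun A m => rfl
  have hext : ∀ {x y : Additive (blk M j)},
      ((Additive.toMul x : blk M j) : G) = ((Additive.toMul y : blk M j) : G) → x = y := by
    intro x y hxy
    exact Additive.toMul.injective (Subtype.ext hxy)
  have hsub : ∀ x y : Additive (blk M j), ((Additive.toMul (x - y) : blk M j) : G) =
      ((Additive.toMul x : blk M j) : G) * ((Additive.toMul y : blk M j) : G)⁻¹ := by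
    intro x y
    change ((Additive.toMul x : blk M j) : G) / ((Additive.toMul y : blk M j) : G) = _
    exact div_eq_mul_inv _ _
  have hadd : ∀ x y : Additive (blk M j), ((Additive.toMul (x + y) : blk M j) : G) =
      ((Additive.toMul x : blk M j) : G) * ((Additive.toMul y : blk M j) : G) := fun x y => rfl
  let π : Additive (blk M j) →+ (Fin 2 → F) :=
    { toFun := fun m => M.e ((Additive.toMul m : blk M j) : G) j
      map_zero' := by
        change M.e 1 j = 0
        rw [Nb.e_one (M := M)]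
        rfl
      map_add' := fun x y => by
        change M.e ((Additive.toMul x : blk M j) * (Additive.toMul y : blk M j) : G) j = _
        rw [M.mul _ (hXU (Additive.toMul x).2) _ (hXU (Additive.toMul y).2), Pi.add_apply] }
  have hπv : ∀ m : Additive (blk M j), π m = M.e ((Additive.toMul m : blk M j) : G) j := fun m => rfl
  have hD : ∀ w ∈ blk M j, M.e w j = 0 → w ∈ D := by
    intro w hw hw0
    rw [← M.ker _ (hXU hw)]
    funext l
    by_cases hl : l = j
    · rw [hl, hw0]; rfl
    · exact e_blk h hl hw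
  obtain ⟨l, g, hl, hg, hgs, hc⟩ := exists_lg hF (M := Additive (blk M j)) (fun m => hext (by
      change ((Additive.toMul m : blk M j) : G) * ((Additive.toMul m : blk M j) : G) = 1
      exact h.sq (hXU (Additive.toMul m).2))) ρ (fun A B m => hext (by
      rw [hρv, hρv, hρv]
      have h1 := h.acts_mul (hlfP B) (hlfA A) (hlfA B)
      rw [← sg_mul] at h1
      rw [h.same (hlfP (A * B)) (mul_mem (hlfP A) (hlfP B)) (hlfA (A * B)) h1 (hXU (Additive.toMul m).2)]
      group)) (fun m => hext (by
      rw [hρv]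
      have h1 := hlfA 1
      rw [sg_one] at h1
      rw [h.comm_of_one (hlfP 1) h1 (hXU (Additive.toMul m).2), mul_inv_cancel_right])) π (fun A m => by
      rw [hπv, hρv, (hlfA A).1 _ (hXU (Additive.toMul m).2), sg_self, hπv]) (fun A m hm => hext (by
      rw [hρv]
      rw [(hlfA A).2 _ (hD _ (Additive.toMul m).2 hm), mul_inv_cancel_right])) (fun x => by
      obtain ⟨w, hw, hwx⟩ := exists_blk_e h j x
      exact ⟨Additive.ofMul ⟨w, hw⟩, hwx⟩) (fun N hN => by
      -- `M = [M, L]`
      let N' : Subgroup G := (AddSubgroup.toSubgroup' N).map (blk M j).subtype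
      have h1 : blk M j ≤ N' := by
        conv_lhs => rw [blk]
        rw [closure_le]
        rintro _ ⟨c, hc, A, hA, v, hv, rfl⟩
        obtain ⟨w, hw, hww⟩ := exists_blk_comm h hc hA hv
        rw [hww, h.same hc (hlfP A) hA (hlfA A) (hXU hw)]
        let x : Additive (blk M j) := Additive.ofMul ⟨w, hw⟩
        have h3 : ((Additive.toMul (ρ A x - x) : blk M j) : G) = lf A * w * (lf A)⁻¹ * w⁻¹ := hsub _ _
        exact ⟨Additive.toMul (ρ A x - x), hN A x, h3⟩
      rw [eq_top_iff]
      intro x _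
      obtain ⟨y, hy, hyx⟩ := h1 (Additive.toMul x).2
      have h2 : y = Additive.toMul x := Subtype.ext hyx
      rw [h2] at hy
      exact hy)
  refine ⟨fun s => ((Additive.toMul (l s) : blk M j) : G), fun x => ((Additive.toMul (g x) : blk M j) : G), ?_⟩
  refine
    { lm := fun s => (Additive.toMul (l s)).2
      le := fun s => hl s
      la := fun s t => by rw [map_add, hadd]
      gm := fun x => (Additive.toMul (g x)).2
      gD := fun x => hD _ (Additive.toMul (g x)).2 (hg x)
      ga := fun s t => by rw [map_add, hadd]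
      gs := fun d hd hdD => ?_
      cm := fun c hcP β hβ v hv => ?_ }
  · have h0 : M.e d j = 0 := by
      have := (M.ker d (hXU hd)).2 hdD
      rw [this]; rfl
    obtain ⟨x, hx⟩ := hgs (Additive.ofMul ⟨d, hd⟩) h0
    exact ⟨x, by rw [hx]; rfl⟩
  · obtain ⟨w, hw, hww⟩ := exists_blk_e h j (M.e v j)
    have h1 := sg_congr h hcP hβ hv (hXU hw) hww.symm
    let x : Additive (blk M j) := Additive.ofMul ⟨w, hw⟩
    have h2 := congrArg (fun z => ((Additive.toMul z : blk M j) : G)) (hc β x)
    simp only [hsub, hadd, hρv] at h2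
    have h3 : ((Additive.toMul x : blk M j) : G) = w := rfl
    rw [h3] at h2
    rw [h1, h.same hcP (hlfP _) hβ (hlfA _) (hXU hw), h2, ← hww]
    rfl

end ex

end Cfsg.Agent.Omega.NOThreeL.RRed.NS
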