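import Cfsg.Agent.Omega.NOThreeL.RRed.NS.Spl
import Cfsg.Agent.Omega.NOThreeL.RRed.NS.Inst
import Cfsg.Agent.Omega.NOThreeL.RRed.Blk.SplitAll

/-!
# THEOREM NS (#24102)

`U ≥ Z = Ω₁(Z(S))` is elementary abelian, `EE = {A ≤ S : Tt U A}`, `Active S P U` : some member of `EE` moves `V_P`.

* **`ns`** : `P, P' ∈ P*(S)` active, both in `N(U)`, `V_P` natural over `F`, `|F| > 2`: `P'` centralises every
  `x ∈ Z ∩ ⨆ blk M j ∩ cv S P`;
* **`inf_eq_bot`, `splitBy`, `bigSplits`** : (SPL), if every `1 ≠ z ∈ Z` is moved by an active `P'`.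
-/

set_option autoImplicit false
set_option linter.unusedSectionVars false

namespace Cfsg.Agent.Omega.NOThreeL.RRed.NS

open Subgroup Cfsg Cfsg.Agent.ZN Cfsg.Agent.ZN.ChoiceBase Cfsg.Agent.Omega.MinPar
open Cfsg.Agent.Omega.FFThm (NatKM SymKM OffM ElemM NoOverM StmtM ConclM syl_of_sylow)
open Cfsg.Agent.Omega.FrameFF (cv)
open Cfsg.Agent.Omega.NO3S.ThmB Cfsg.Agent.Omega.NO3S.KeyRad
open Cfsg.Agent.Omega.NOThreeL.RTreeA (SplitBy Splits)
open Cfsg.Agent.Omega.NOThreeL.RRed.Blk.SplitAll (BigSplits)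

universe u

/-- `P` is active on `U`: a member of `EE` moves `V_P`. -/
def Active {G : Type u} [Group G] (S P U : Subgroup G) : Prop :=
  ∃ A ≤ S, Tt U A ∧ ¬ A ≤ centralizer (zl S P : Set G)

variable {G : Type u} [Group G] [Finite G] {S : Sylow 2 G} {P P' U : Subgroup G}

/-- **THEOREM NS.** -/
theorem ns (hG : IsCharacteristicTwoType G) (hFF : StmtM.{u}) (hP : IsParS (S : Subgroup G) P)
    (hP' : IsParS (S : Subgroup G) P') (hU2 : IsElementaryAbelian 2 U) (hPU : P ≤ normalizer (U : Set G))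
    (hP'U : P' ≤ normalizer (U : Set G)) (hZU : zc (S : Subgroup G) ≤ U) {F : Type} [Field F] [Finite F] [CharP F 2]
    {k : ℕ} (M : NatKM F (S : Subgroup G) P (zl (S : Subgroup G) P) (cv (S : Subgroup G) P) k) (hF : 2 < Nat.card F)
    (a : Active (S : Subgroup G) P U) (a' : Active (S : Subgroup G) P' U) {x : G} (hx : x ∈ ⨆ j, blk M j)
    (hxD : x ∈ cv (S : Subgroup G) P) (hxS : x ∈ zc (S : Subgroup G)) : P' ≤ centralizer {x} := by
  obtain ⟨A₀, hA₀, t₀, n₀⟩ := a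
  obtain ⟨A', hA', t', n'⟩ := a'
  intro y hy
  rw [mem_centralizer_singleton_iff]
  by_contra hyx
  have gd := gd_of hG hFF hP hU2 hPU hZU
  have gd' := gd_of hG hFF hP' hU2 hP'U hZU
  have h := Inst.nb hG hP M
  have hxc : ∀ s ∈ (S : Subgroup G), s * x = x * s := fun s hs => (ChoiceBase.mem_zc.1 hxS).2.2 s hs
  have hx' := iSup_DD h hx hxD
  obtain ⟨F', i1, i2, i3, k', M', -, h', -⟩ := swap_of hG hFF hP hP' hU2 hPU hP'U hZU M hF hA₀ t₀ n₀ hA' t' n' hx' hxc hy hyx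
  have hS : ChoiceSit.Syl (S : Subgroup G) (P ⊔ P') :=
    ⟨hP.le.trans le_sup_left, S.isPGroup', fun Q _ hQ hle => S.is_maximal' hQ hle⟩
  exact no_swap h h' hS hF gd gd' hA₀ t₀ n₀ hA' t' n' hx' hxc hy hyx

/-- the hypothesis: every `1 ≠ z ∈ Z` is moved by an active member of `P*(S)` in `N(U)` -/
def RC (S U : Subgroup G) : Prop :=
  ∀ z ∈ zc S, z ≠ 1 → ∃ P', IsParS S P' ∧ P' ≤ normalizer (U : Set G) ∧ Active S P' U ∧ ¬ P' ≤ centralizer {z}

/-- the blocks meet `cv S P` trivially -/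
theorem inf_eq_bot (hG : IsCharacteristicTwoType G) (hFF : StmtM.{u}) (hP : IsParS (S : Subgroup G) P)
    (hU2 : IsElementaryAbelian 2 U) (hPU : P ≤ normalizer (U : Set G)) (hZU : zc (S : Subgroup G) ≤ U)
    (rc : RC (S : Subgroup G) U) (a : Active (S : Subgroup G) P U) {F : Type} [Field F] [Finite F] [CharP F 2]
    {k : ℕ} (M : NatKM F (S : Subgroup G) P (zl (S : Subgroup G) P) (cv (S : Subgroup G) P) k) (hF : 2 < Nat.card F) :
    (⨆ j, blk M j) ⊓ cv (S : Subgroup G) P = ⊥ := by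
  by_contra h0
  have h := Inst.nb hG hP M
  obtain ⟨x, hx, hx1, hxS, hxD⟩ := exists_fix h (((hP.isLoc.zl_le S hG).trans (zc_le _)).trans (hP.isLoc.o2_le S)) h0
  obtain ⟨P', hP', hP'U, a', hm⟩ := rc x hxS hx1
  exact hm (ns hG hFF hP hP' hU2 hPU hP'U hZU M hF a a' ((iSup_mono fun j => (inf_le_left : DD M j ≤ blk M j)) hx) hxD hxS)

/-- **(SPL)** with the complement `⨆ blk M j`. -/
theorem splitBy (hG : IsCharacteristicTwoType G) (hFF : StmtM.{u}) (hP : IsParS (S : Subgroup G) P)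
    (hU2 : IsElementaryAbelian 2 U) (hPU : P ≤ normalizer (U : Set G)) (hZU : zc (S : Subgroup G) ≤ U)
    (rc : RC (S : Subgroup G) U) (a : Active (S : Subgroup G) P U) {F : Type} [Field F] [Finite F] [CharP F 2]
    {k : ℕ} (M : NatKM F (S : Subgroup G) P (zl (S : Subgroup G) P) (cv (S : Subgroup G) P) k) (hF : 2 < Nat.card F) :
    SplitBy (S : Subgroup G) P (cv (S : Subgroup G) P) (⨆ j, blk M j) :=
  splitBy_of (Inst.nb hG hP M) (inf_eq_bot hG hFF hP hU2 hPU hZU rc a M hF)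

/-- **(SPL)** -/
theorem bigSplits (hG : IsCharacteristicTwoType G) (hFF : StmtM.{u}) (hP : IsParS (S : Subgroup G) P)
    (hU2 : IsElementaryAbelian 2 U) (hPU : P ≤ normalizer (U : Set G)) (hZU : zc (S : Subgroup G) ≤ U)
    (rc : RC (S : Subgroup G) U) (a : Active (S : Subgroup G) P U) : BigSplits (S : Subgroup G) P :=
  fun _ _ _ _ _ _ hF ⟨M⟩ => ⟨_, splitBy hG hFF hP hU2 hPU hZU rc a M (by omega)⟩

end Cfsg.Agent.Omega.NOThreeL.RRed.NS
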