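import Cfsg.Agent.Omega.NOThreeL.RRed.NS.One
import Cfsg.Agent.Omega.NOThreeL.RRed.NS.Cov

/-!
# THEOREM NS (#24102): consequences of (1)

`M : NatKM F S P V D k`, `h : Nb M`, `2 < |F|`, `V ≤ U`, `P ≤ N(U)`.

* `not_le_of_one` : `One M U A i` ⟹ `A ≰ C(V)`;
* `exists_cj` : the conjugates under `S` of a member of `EE` which moves `V` act on all blocks;
* `YY_conj`, `DD_conj` : they permute the `YY h j` and `DD M j`;
* `Gd S P' U V'` : a parabolic of arbitrary type, `Gd.sd`;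
* `Gd.cent_YY` : some member of `EE` moves `V'` and some `A ∈ EE` moves `V`, not `V'` ⟹ `N'` centralises all `YY h j`;
* `Gd.fix` **(1)** : then `P'` fixes every `x ∈ ⨆ DD M j` which is fixed by `S`;
* `Gd.moves` : so, if `P'` moves such an `x`, every member of `EE` which moves `V` moves `V'`.
-/

set_option autoImplicit false
set_option linter.unusedSectionVars false

namespace Cfsg.Agent.Omega.NOThreeL.RRed.NS

open Subgroup Cfsg Cfsg.Agent.ZN Cfsg.Agent.ZN.ChoiceBase
open Cfsg.Agent.Omega.FFThm Cfsg.Agent.Lib.SL2Mat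
open Cfsg.Agent.Omega.NatPair (ap)
open Cfsg.Agent.Omega.NO3S.ThmB Cfsg.Agent.Omega.NO3S.KeyRad

universe u

variable {G : Type u} [Group G]

theorem covs_cj {U A : Subgroup G} {s : G} (hs : s ∈ normalizer (U : Set G)) {w : G} :
    w ∈ covs U (cj s A) ↔ s⁻¹ * w * s ∈ covs U A := by
  constructor
  · rintro ⟨a, ha, u, hu, rfl⟩
    obtain ⟨b, hb, rfl⟩ := exists_of_mem_cj ha
    have h1 : s⁻¹ * u * s ∈ U := by
      have := (mem_normalizer_iff.1 (inv_mem hs) u).1 hu
      rwa [inv_inv] at this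
    exact ⟨b, hb, _, h1, by group⟩
  · rintro ⟨b, hb, u, hu, e⟩
    refine ⟨s * b * s⁻¹, mem_cj_of hb, s * u * s⁻¹, (mem_normalizer_iff.1 hs u).1 hu, ?_⟩
    have e2 : w = s * (s⁻¹ * w * s) * s⁻¹ := by group
    rw [e2, ← e]
    group

theorem closure_covs_cj {U A : Subgroup G} {s : G} (hs : s ∈ normalizer (U : Set G)) :
    closure (covs U (cj s A)) = cj s (closure (covs U A)) := by
  apply le_antisymm
  · rw [closure_le]
    intro w hw
    rw [SetLike.mem_coe, mem_cj]
    exact subset_closure ((covs_cj hs).1 hw)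
  · rw [cj_le_iff, closure_le]
    intro w hw
    rw [SetLike.mem_coe, mem_cj, inv_inv]
    refine subset_closure ((covs_cj hs).2 ?_)
    have e : s⁻¹ * (s * w * s⁻¹) * s = w := by group
    rw [e]
    exact hw

section first

variable [Finite G] {F : Type} [Field F] [Finite F] [CharP F 2] {S P V D U : Subgroup G} {k : ℕ}
  {M : NatKM F S P V D k} (h : Nb M)

omit [Finite G] [Finite F] in
theorem not_le_of_one {A : Subgroup G} {i : Fin k} (O : One M U A i) : ¬ A ≤ centralizer (V : Set G) := by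
  intro hA
  obtain ⟨w, hw, hwi, -⟩ := Nb.exists_single M i ![0, 1]
  obtain ⟨a, ha, hab⟩ := O.all 1
  have h1 : a * w * a⁻¹ = w := by
    rw [← mem_centralizer_iff.1 (hA ha) w hw]
    group
  have h2 := congrFun (hab.1 w hw i) 0
  rw [h1, sg_self, ap_up_0, hwi] at h2
  simp at h2

include h

/-- the conjugates of a member of `EE` act on all blocks -/
theorem exists_cj (hU2 : IsElementaryAbelian 2 U) (hVU : V ≤ U) (hPU : P ≤ normalizer (U : Set G)) {A : Subgroup G}
    (hAS : A ≤ S) (t : Tt U A) {i : Fin k} (O : One M U A i) (j : Fin k) :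
    ∃ s ∈ S, cj s A ≤ S ∧ Tt U (cj s A) ∧ One M U (cj s A) j := by
  obtain ⟨s, hs, hsj⟩ := M.trans i j
  have hsP := h.SP' hs
  have h1 : cj s A ≤ S := by
    have := cj_mono s hAS
    rwa [cj_eq_of_mem_normalizer (le_normalizer hs)] at this
  have h2 : Tt U (cj s A) := t.cj (hPU hsP)
  have h3 : ¬ cj s A ≤ centralizer (V : Set G) := by
    intro h4
    rw [cj_le_iff, cj_centralizer, cj_eq_of_mem_normalizer (inv_mem (h.VP' hsP))] at h4
    exact not_le_of_one O h4
  obtain ⟨j', O'⟩ := h2.one h hU2 hVU h1 h3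
  have h4 := h.idx_conj O hs hsj O'
  subst h4
  exact ⟨s, hs, h1, h2, O'⟩

/-- the conjugates of the root line -/
theorem YY_conj (hF : 2 < Nat.card F) (hVU : V ≤ U) (hPU : P ≤ normalizer (U : Set G)) {A : Subgroup G}
    (hAS : A ≤ S) {i j : Fin k} (O : One M U A i) {s : G} (hs : s ∈ S) (O' : One M U (cj s A) j) :
    cj s (YY h i) = YY h j := by
  obtain ⟨l, g, C⟩ := exists_cd h hF i
  obtain ⟨l', g', C'⟩ := exists_cd h hF j
  have h1 : cj s A ≤ S := by
    have := cj_mono s hAS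
    rwa [cj_eq_of_mem_normalizer (le_normalizer hs)] at this
  rw [← YY_eq h C O (hAS.trans h.SP') hVU hF, ← YY_eq h C' O' (h1.trans h.SP') hVU hF,
    closure_covs_cj (hPU (h.SP' hs))]

omit [Finite G] [Finite F] [CharP F 2] in
theorem DD_eq (j : Fin k) : DD M j = YY h j ⊓ D :=
  le_antisymm (le_inf (DD_le_YY h j) inf_le_right) (inf_le_inf_right _ (YY_le h j))

theorem DD_conj (hF : 2 < Nat.card F) (hVU : V ≤ U) (hPU : P ≤ normalizer (U : Set G)) {A : Subgroup G}
    (hAS : A ≤ S) {i j : Fin k} (O : One M U A i) {s : G} (hs : s ∈ S) (O' : One M U (cj s A) j) :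
    cj s (DD M i) = DD M j := by
  rw [DD_eq h, DD_eq h, cj_inf, YY_conj h hF hVU hPU hAS O hs O', cj_eq_of_mem_normalizer (h.DP' (h.SP' hs))]

end first

/-- the second parabolic, arbitrary type -/
structure Gd (S P' U V' : Subgroup G) : Prop where
  SP : S ≤ P'
  UN : P' ≤ normalizer (U : Set G)
  U2 : IsElementaryAbelian 2 U
  VU : V' ≤ U
  VN : P' ≤ normalizer (V' : Set G)
  PS : ∀ B ≤ S, B ≤ centralizer (V' : Set G) → ∀ h ∈ P', cj h B ≤ S
  full : ∀ A ≤ S, Tt U A → ¬ A ≤ centralizer (V' : Set G) → ∀ u ∈ U, ∃ v ∈ V', ∃ c ∈ U,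
    (∀ a ∈ A, a * c = c * a) ∧ u = v * c
  gen : ∀ A ≤ S, ¬ A ≤ centralizer (V' : Set G) → P' ≤ NC P' A ⊔ S

theorem Gd.sd {S P' U V' A : Subgroup G} (g : Gd S P' U V') (hA : A ≤ S) (t : Tt U A)
    (hne : ¬ A ≤ centralizer (V' : Set G)) : Sd S P' U V' A :=
  ⟨g.SP, g.UN, g.U2, g.VU, g.VN, g.PS, hA, t, g.full A hA t hne, g.gen A hA hne⟩

section one

variable [Finite G] {F : Type} [Field F] [Finite F] [CharP F 2] {S P V D U : Subgroup G} {k : ℕ}
  {M : NatKM F S P V D k} (h : Nb M) (hF : 2 < Nat.card F) (hVU : V ≤ U) (hPU : P ≤ normalizer (U : Set G))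
  {P' V' : Subgroup G} (g : Gd S P' U V')
include h hF hVU hPU g

theorem Gd.cent_YY {A' : Subgroup G} (hA'S : A' ≤ S) (t' : Tt U A') (hne' : ¬ A' ≤ centralizer (V' : Set G))
    {A : Subgroup G} (hAS : A ≤ S) (t : Tt U A) (hne : ¬ A ≤ centralizer (V : Set G))
    (hA : A ≤ centralizer (V' : Set G)) (j : Fin k) {n w : G} (hn : n ∈ NC P' A') (hw : w ∈ YY h j) :
    n * w = w * n := by
  obtain ⟨i, O⟩ := t.one h g.U2 hVU hAS hne
  obtain ⟨s, hs, hsS, ts, Os⟩ := exists_cj h g.U2 hVU hPU hAS t O j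
  have d := g.sd hA'S t' hne'
  have hsC : cj s A ≤ centralizer (V' : Set G) := by
    rw [cj_le_iff, cj_centralizer, cj_eq_of_mem_normalizer (inv_mem (g.VN (g.SP hs)))]
    exact hA
  obtain ⟨l, f, C⟩ := exists_cd h hF j
  have h1 : closure (covs U (cj s A)) ≤ centralizer ({n} : Set G) := by
    rw [closure_le]
    rintro _ ⟨a, ha, u, hu, rfl⟩
    rw [SetLike.mem_coe, mem_centralizer_singleton_iff]
    exact (d.cent_comm h hVU Os hsS ts hsC hn ha hu).symm
  rw [YY_eq h C Os (hsS.trans h.SP') hVU hF] at h1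
  exact (mem_centralizer_singleton_iff.1 (h1 hw)).symm

/-- **(1)** -/
theorem Gd.fix {A' : Subgroup G} (hA'S : A' ≤ S) (t' : Tt U A') (hne' : ¬ A' ≤ centralizer (V' : Set G))
    {A : Subgroup G} (hAS : A ≤ S) (t : Tt U A) (hne : ¬ A ≤ centralizer (V : Set G))
    (hA : A ≤ centralizer (V' : Set G)) {x : G} (hx : x ∈ ⨆ j, DD M j) (hxS : ∀ s ∈ S, s * x = x * s) :
    ∀ y ∈ P', y * x = x * y := by
  have d := g.sd hA'S t' hne'
  have h1 : NC P' A' ≤ centralizer ({x} : Set G) := by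
    intro n hn
    have h2 : (⨆ j, DD M j) ≤ centralizer ({n} : Set G) := by
      refine iSup_le fun j w hw => ?_
      rw [mem_centralizer_singleton_iff]
      exact (g.cent_YY h hF hVU hPU hA'S t' hne' hAS t hne hA j hn (DD_le_YY h j hw)).symm
    rw [mem_centralizer_singleton_iff]
    exact (mem_centralizer_singleton_iff.1 (h2 hx)).symm
  have h2 : S ≤ centralizer ({x} : Set G) := fun s hs => by
    rw [mem_centralizer_singleton_iff]
    exact hxS s hs
  intro y hy
  exact mem_centralizer_singleton_iff.1 ((sup_le h1 h2) (d.gen hy))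

/-- if `P'` moves `x ∈ D₀ ∩ Z`, then every member of `EE` which moves `V` moves `V'` -/
theorem Gd.moves {A' : Subgroup G} (hA'S : A' ≤ S) (t' : Tt U A') (hne' : ¬ A' ≤ centralizer (V' : Set G))
    {x : G} (hx : x ∈ ⨆ j, DD M j) (hxS : ∀ s ∈ S, s * x = x * s) {y : G} (hy : y ∈ P') (hyx : y * x ≠ x * y)
    {A : Subgroup G} (hAS : A ≤ S) (t : Tt U A) (hne : ¬ A ≤ centralizer (V : Set G)) :
    ¬ A ≤ centralizer (V' : Set G) := fun hA =>
  hyx (g.fix h hF hVU hPU hA'S t' hne' hAS t hne hA hx hxS y hy)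

end one

end Cfsg.Agent.Omega.NOThreeL.RRed.NS
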