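import Cfsg.Agent.Omega.NOThreeL.RRed.NS.Two
import Cfsg.Agent.Omega.NOThreeL.RRed.NS.Sym
import Cfsg.Agent.Omega.NO3S.Level.ThmD
import Cfsg.Agent.Omega.NO3S.ThmB.Inst

/-!
# THEOREM NS (#24102): the parabolics

* `gd_of` : `P ∈ P*(S)`, `P ≤ N(U)`, `Z ≤ U` elementary abelian, the FF theorem ⟹ `Gd S P U V_P`;
* `nat_of` : if a member of `EE` moves `V_P'` and acts as a root group over a field with more than two elements on a natural
  block of `P`, then `P'` is of natural type.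
-/

set_option autoImplicit false
set_option linter.unusedSectionVars false

namespace Cfsg.Agent.Omega.NOThreeL.RRed.NS

open Subgroup Cfsg Cfsg.Agent.ZN Cfsg.Agent.ZN.ChoiceBase Cfsg.Agent.Omega.MinPar
open Cfsg.Agent.Omega.FFThm (NatKM SymKM OffM ElemM NoOverM StmtM ConclM syl_of_sylow)
open Cfsg.Agent.Omega.FrameFF (cv)
open Cfsg.Agent.Omega.NO3S.ThmB Cfsg.Agent.Omega.NO3S.KeyRad

universe u

variable {G : Type u} [Group G] [Finite G] {S : Sylow 2 G} {P U : Subgroup G}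

theorem gd_of (hG : IsCharacteristicTwoType G) (hFF : StmtM.{u}) (hP : IsParS (S : Subgroup G) P)
    (hU2 : IsElementaryAbelian 2 U) (hPU : P ≤ normalizer (U : Set G)) (hZU : zc (S : Subgroup G) ≤ U) :
    Gd (S : Subgroup G) P U (zl (S : Subgroup G) P) where
  SP := hP.le
  UN := hPU
  U2 := hU2
  VU := ZN.zl_le hZU hPU
  VN := ZN.le_normalizer_zl _ _
  PS := fun _ hB hBc _ hg => NO3S.Level.conj_le_of_cent hG hP hB hBc hg
  full := fun A hA t hne => by
    have hVU : zl (S : Subgroup G) P ≤ U := ZN.zl_le hZU hPU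
    have hE : ElemM (zl (S : Subgroup G) P) A :=
      ⟨fun a ha => centralizer_le hVU (t.elem.sq a ha), fun a ha b hb => centralizer_le hVU (t.elem.comm a ha b hb)⟩
    exact (t.split hU2 hVU (NO3S.Level.noOver_line hFF hG hP (hA.trans hP.le) hE hne) hne).2
  gen := fun A hA hne => by
    have hAP : A ≤ P := hA.trans hP.le
    have hN : P ≤ normalizer (NC P A : Set G) := fun g hg => mem_normalizer_iff.2 fun x =>
      ⟨fun hx => conj_NC hg hx, fun hx => by
        have h1 := conj_NC (inv_mem hg) hx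
        have e : g⁻¹ * (g * x * g⁻¹) * g⁻¹⁻¹ = x := by group
        rwa [e] at h1⟩
    rcases IsPar.sup_eq_or_inf_le S hP.toIsPar (NC_le hAP) hN with h1 | h1
    · exact h1.ge
    · exfalso
      apply hne
      have h2 : A ≤ o2 P := (le_inf hA le_NC).trans h1
      rw [← IsParS.inf_centralizer S hG hP] at h2
      exact h2.trans inf_le_right

/-- `P'` is of natural type -/
theorem nat_of (hG : IsCharacteristicTwoType G) (hFF : StmtM.{u}) {P' : Subgroup G} (hP' : IsParS (S : Subgroup G) P')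
    (hU2 : IsElementaryAbelian 2 U) (hP'U : P' ≤ normalizer (U : Set G)) (hZU : zc (S : Subgroup G) ≤ U) {A : Subgroup G}
    (hAS : A ≤ S) (t : Tt U A) (hne : ¬ A ≤ centralizer (zl (S : Subgroup G) P' : Set G)) {F : Type} [Field F] [Finite F] {V D : Subgroup G}
    {k : ℕ} {M : NatKM F (S : Subgroup G) P V D k} (hVU : V ≤ U) {j : Fin k} (O : One M U A j) (hF : 2 < Nat.card F) :
    ∃ (F' : Type) (_ : Field F') (_ : Finite F') (_ : CharP F' 2) (k' : ℕ),
      Nonempty (NatKM F' (S : Subgroup G) P' (zl (S : Subgroup G) P') (cv (S : Subgroup G) P') k') := by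
  have hVU' : zl (S : Subgroup G) P' ≤ U := ZN.zl_le hZU hP'U
  have hoff : OffM (zl (S : Subgroup G) P') A := t.offM hU2 hVU' hne
  obtain ⟨-, hcon⟩ := hFF G (S : Subgroup G) P' (syl_of_sylow S hP'.le) hP'.toIsMinPar (hP'.isLoc.char2 S hG)
    ⟨A, hAS.trans hP'.le, hoff⟩
  rcases hcon with ⟨F', i1, i2, i3, k', -, ⟨N⟩⟩ | ⟨k', m, -, hm, ⟨N⟩⟩
  · exact ⟨F', i1, i2, i3, k', ⟨N⟩⟩
  · exfalso
    obtain ⟨i, x, y, s, n0, O'⟩ := Tt.oneS (Inst.sb hG hP' hm N) t hU2 hVU' hAS hne
    exact One.not_oneS hF O hVU O'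

end Cfsg.Agent.Omega.NOThreeL.RRed.NS
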