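import Cfsg.Agent.Omega.NOThreeL.RRed.NS.Blk

/-!
# THEOREM NS (#24102), part (E): the smallest best offenders

`U` elementary abelian.

* `Tt U A` : `A / C_A(U)` is elementary abelian, `|U : C_U(A)| ≤ |A : C_A(U)| ≠ 1`, and `|B| |C_U(B)| < |A| |C_U(A)|` for
  all `C_A(U) ≤ B < A`, `B ≰ C(U)` (invariant under `N(U)`; if there is no over-offender: `A` is a minimal exact group);
* `Tt.cj`, `Tt.best`, `Tt.cut`, `Tt.offM`;
* `Tt.split` **(E)** : `A` moves `V ≤ U`, no over-offender on `V`: `C_A(V) ≤ C(U)`, `U = V C_U(A)`;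
* `Tt.one` **(E)**, natural type: `A` acts as the full root group of one block `i`, `U = V_i C_U(A)` (`ThmB.One`).
-/

set_option autoImplicit false
set_option linter.unusedSectionVars false

namespace Cfsg.Agent.Omega.NOThreeL.RRed.NS

open Subgroup Cfsg Cfsg.Agent.ZN Cfsg.Agent.ZN.ChoiceBase
open Cfsg.Agent.Omega.FFThm Cfsg.Agent.Omega.NatPair Cfsg.Agent.Lib.SL2Mat
open Cfsg.Agent.Omega.NO3S.ThmB Cfsg.Agent.Omega.NO3S.KeyRad

universe u

variable {G : Type u} [Group G]

theorem elemM_cj {V A : Subgroup G} {m : G} (hm : m ∈ normalizer (V : Set G)) (h : ElemM V A) :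
    ElemM V (ChoiceBase.cj m A) := by
  have h3 : ChoiceBase.cj m V = V := cj_eq_of_mem_normalizer hm
  have h4 : ∀ x, m⁻¹ * x * m ∈ centralizer (V : Set G) → x ∈ centralizer (V : Set G) := by
    intro x hx
    have h5 : x ∈ ChoiceBase.cj m (centralizer (V : Set G)) := by rwa [ChoiceBase.mem_cj]
    rwa [cj_centralizer, h3] at h5
  refine ⟨fun a ha => h4 _ ?_, fun a ha b hb => h4 _ ?_⟩
  · rw [ChoiceBase.mem_cj] at ha
    have e : m⁻¹ * a ^ 2 * m = (m⁻¹ * a * m) ^ 2 := by rw [sq, sq]; group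
    rw [e]
    exact h.sq _ ha
  · rw [ChoiceBase.mem_cj] at ha hb
    have e : m⁻¹ * (a * b * a⁻¹ * b⁻¹) * m =
        (m⁻¹ * a * m) * (m⁻¹ * b * m) * (m⁻¹ * a * m)⁻¹ * (m⁻¹ * b * m)⁻¹ := by group
    rw [e]
    exact h.comm _ ha _ hb

/-- `A` acts on `U` as a smallest best offender. -/
structure Tt (U A : Subgroup G) : Prop where
  elem : ElemM U A
  ne : ¬ A ≤ centralizer (U : Set G)
  off : Nat.card U * Nat.card ↥(A ⊓ centralizer (U : Set G)) ≤ Nat.card A * Nat.card ↥(U ⊓ centralizer (A : Set G))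
  min : ∀ B : Subgroup G, A ⊓ centralizer (U : Set G) ≤ B → B ≤ A → B ≠ A → ¬ B ≤ centralizer (U : Set G) →
    Nat.card B * Nat.card ↥(U ⊓ centralizer (B : Set G)) < Nat.card A * Nat.card ↥(U ⊓ centralizer (A : Set G))

namespace Tt

variable {U A : Subgroup G} (t : Tt U A)
include t

theorem best {B : Subgroup G} (h1 : A ⊓ centralizer (U : Set G) ≤ B) (h2 : B ≤ A) :
    Nat.card B * Nat.card ↥(U ⊓ centralizer (B : Set G)) ≤ Nat.card A * Nat.card ↥(U ⊓ centralizer (A : Set G)) := by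
  by_cases hB : B = A
  · rw [hB]
  by_cases hC : B ≤ centralizer (U : Set G)
  · have e : B = A ⊓ centralizer (U : Set G) := le_antisymm (le_inf h2 hC) h1
    have e1 : U ⊓ centralizer (B : Set G) = U := inf_eq_left.2 (le_centralizer_iff.1 hC)
    rw [e1, mul_comm, e]
    exact t.off
  · exact (t.min B h1 h2 hB hC).le

theorem cut {B : Subgroup G} (h1 : A ⊓ centralizer (U : Set G) ≤ B) (h2 : B ≤ A) (hne : B ≠ A)
    (h3 : Nat.card A * Nat.card ↥(U ⊓ centralizer (A : Set G)) ≤ Nat.card B * Nat.card ↥(U ⊓ centralizer (B : Set G))) :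
    B ≤ centralizer (U : Set G) := by
  by_contra hC
  exact absurd h3 (not_le.2 (t.min B h1 h2 hne hC))

theorem cj {g : G} (hg : g ∈ normalizer (U : Set G)) : Tt U (ChoiceBase.cj g A) := by
  have eU : ∀ x ∈ normalizer (U : Set G), ChoiceBase.cj x U = U := fun x hx => cj_eq_of_mem_normalizer hx
  have eC : ∀ x ∈ normalizer (U : Set G), ChoiceBase.cj x (centralizer (U : Set G)) = centralizer (U : Set G) :=
    fun x hx => by rw [cj_centralizer, eU x hx]
  have e1 : ∀ B : Subgroup G, ∀ x ∈ normalizer (U : Set G),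
      Nat.card ↥(U ⊓ centralizer ((ChoiceBase.cj x B : Subgroup G) : Set G)) =
        Nat.card ↥(U ⊓ centralizer (B : Set G)) := by
    intro B x hx
    have h1 : U ⊓ centralizer ((ChoiceBase.cj x B : Subgroup G) : Set G) =
        ChoiceBase.cj x (U ⊓ centralizer (B : Set G)) := by
      rw [cj_inf, cj_centralizer, eU x hx]
    rw [h1, card_cj]
  have e2 : ChoiceBase.cj g A ⊓ centralizer (U : Set G) = ChoiceBase.cj g (A ⊓ centralizer (U : Set G)) := by
    rw [cj_inf, eC g hg]
  refine ⟨elemM_cj hg t.elem, fun h => t.ne ?_, ?_, fun B h1 h2 h3 h4 => ?_⟩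
  · rw [← eC g hg] at h
    exact cj_le_cj_iff.1 h
  · rw [e2, card_cj, card_cj, e1 A g hg]
    exact t.off
  · have h5 := t.min (ChoiceBase.cj g⁻¹ B) ?_ ?_ ?_ ?_
    · rw [e1 B g⁻¹ (inv_mem hg), card_cj] at h5
      rw [card_cj, e1 A g hg]
      exact h5
    · rw [e2] at h1
      exact cj_le_iff.1 h1
    · rw [cj_le_iff, inv_inv]
      exact h2
    · intro h6
      apply h3
      rw [← h6, cj_cj_inv]
    · intro h6
      apply h4
      rw [cj_le_iff, inv_inv, eC g hg] at h6
      exact h6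

/-- A smallest best offender on `U` is an offender on `V ≤ U`. -/
theorem le_of_best [Finite G] (hU : IsElementaryAbelian 2 U) {V : Subgroup G} (hVU : V ≤ U) :
    Nat.card V * Nat.card ↥(A ⊓ centralizer (V : Set G)) ≤ Nat.card A * Nat.card ↥(V ⊓ centralizer (A : Set G)) := by
  have hC : centralizer (U : Set G) ≤ centralizer (V : Set G) := centralizer_le hVU
  have h1 := t.best (B := A ⊓ centralizer (V : Set G)) (inf_le_inf_left A hC) inf_le_left
  have h2 : V ⊔ (U ⊓ centralizer (A : Set G)) ≤ U ⊓ centralizer ((A ⊓ centralizer (V : Set G) : Subgroup G) : Set G) := by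
    refine sup_le (le_inf hVU fun v hv => mem_centralizer_iff.2 fun a ha => ?_)
      (inf_le_inf_left U (centralizer_le inf_le_left))
    exact (mem_centralizer_iff.1 ha.2 v hv).symm
  have h3 := card_le_of_le h2
  have h4 : V ≤ centralizer ((U ⊓ centralizer (A : Set G) : Subgroup G) : Set G) := fun v hv =>
    mem_centralizer_iff.2 fun c hc => elem_comm hU hc.1 (hVU hv)
  have h5 := card_sup_mul_inf h4
  have e : V ⊓ (U ⊓ centralizer (A : Set G)) = V ⊓ centralizer (A : Set G) := by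
    rw [← inf_assoc, inf_eq_left.2 hVU]
  rw [e] at h5
  have hp1 : 0 < Nat.card ↥(U ⊓ centralizer (A : Set G)) := Nat.card_pos
  refine Nat.le_of_mul_le_mul_right (c := Nat.card ↥(U ⊓ centralizer (A : Set G))) ?_ hp1
  calc Nat.card V * Nat.card ↥(A ⊓ centralizer (V : Set G)) * Nat.card ↥(U ⊓ centralizer (A : Set G))
      = Nat.card ↥(A ⊓ centralizer (V : Set G)) * (Nat.card V * Nat.card ↥(U ⊓ centralizer (A : Set G))) := by ring
    _ = Nat.card ↥(A ⊓ centralizer (V : Set G)) *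
        (Nat.card ↥(V ⊔ (U ⊓ centralizer (A : Set G))) * Nat.card ↥(V ⊓ centralizer (A : Set G))) := by rw [h5]
    _ ≤ Nat.card ↥(A ⊓ centralizer (V : Set G)) *
        (Nat.card ↥(U ⊓ centralizer ((A ⊓ centralizer (V : Set G) : Subgroup G) : Set G)) *
          Nat.card ↥(V ⊓ centralizer (A : Set G))) :=
        Nat.mul_le_mul_left _ (Nat.mul_le_mul_right _ h3)
    _ = Nat.card ↥(A ⊓ centralizer (V : Set G)) *
        Nat.card ↥(U ⊓ centralizer ((A ⊓ centralizer (V : Set G) : Subgroup G) : Set G)) *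
          Nat.card ↥(V ⊓ centralizer (A : Set G)) := by ring
    _ ≤ Nat.card A * Nat.card ↥(U ⊓ centralizer (A : Set G)) * Nat.card ↥(V ⊓ centralizer (A : Set G)) :=
        Nat.mul_le_mul_right _ h1
    _ = Nat.card A * Nat.card ↥(V ⊓ centralizer (A : Set G)) * Nat.card ↥(U ⊓ centralizer (A : Set G)) := by ring

theorem offM [Finite G] (hU : IsElementaryAbelian 2 U) {V : Subgroup G} (hVU : V ≤ U)
    (hne : ¬ A ≤ centralizer (V : Set G)) : OffM V A where
  sq a ha := centralizer_le hVU (t.elem.sq a ha)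
  comm a ha b hb := centralizer_le hVU (t.elem.comm a ha b hb)
  ne := hne
  le := t.le_of_best hU hVU

/-- **(E)** -/
theorem split [Finite G] (hU : IsElementaryAbelian 2 U) {V : Subgroup G} (hVU : V ≤ U)
    (hno : Nat.card A * Nat.card ↥(V ⊓ centralizer (A : Set G)) ≤ Nat.card V * Nat.card ↥(A ⊓ centralizer (V : Set G)))
    (hne : ¬ A ≤ centralizer (V : Set G)) : A ⊓ centralizer (V : Set G) ≤ centralizer (U : Set G) ∧
      ∀ u ∈ U, ∃ v ∈ V, ∃ c ∈ U, (∀ a ∈ A, a * c = c * a) ∧ u = v * c := by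
  have hC : centralizer (U : Set G) ≤ centralizer (V : Set G) := centralizer_le hVU
  set B : Subgroup G := A ⊓ centralizer (V : Set G) with hB
  have hAB : A ⊓ centralizer (U : Set G) ≤ B := inf_le_inf_left A hC
  have h2 : V ⊔ (U ⊓ centralizer (A : Set G)) ≤ U ⊓ centralizer (B : Set G) := by
    refine sup_le (le_inf hVU fun v hv => mem_centralizer_iff.2 fun a ha => ?_)
      (inf_le_inf_left U (centralizer_le inf_le_left))
    exact (mem_centralizer_iff.1 ha.2 v hv).symm
  have h3 := card_le_of_le h2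
  have h4 : V ≤ centralizer ((U ⊓ centralizer (A : Set G) : Subgroup G) : Set G) := fun v hv =>
    mem_centralizer_iff.2 fun c hc => elem_comm hU hc.1 (hVU hv)
  have h5 := card_sup_mul_inf h4
  have e : V ⊓ (U ⊓ centralizer (A : Set G)) = V ⊓ centralizer (A : Set G) := by
    rw [← inf_assoc, inf_eq_left.2 hVU]
  rw [e] at h5
  have hp : 0 < Nat.card ↥(V ⊓ centralizer (A : Set G)) := Nat.card_pos
  have h6 : Nat.card A * Nat.card ↥(U ⊓ centralizer (A : Set G)) ≤
      Nat.card B * Nat.card ↥(V ⊔ (U ⊓ centralizer (A : Set G))) := by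
    refine Nat.le_of_mul_le_mul_right (c := Nat.card ↥(V ⊓ centralizer (A : Set G))) ?_ hp
    calc Nat.card A * Nat.card ↥(U ⊓ centralizer (A : Set G)) * Nat.card ↥(V ⊓ centralizer (A : Set G))
        = Nat.card A * Nat.card ↥(V ⊓ centralizer (A : Set G)) * Nat.card ↥(U ⊓ centralizer (A : Set G)) := by ring
      _ ≤ Nat.card V * Nat.card B * Nat.card ↥(U ⊓ centralizer (A : Set G)) := Nat.mul_le_mul_right _ hno
      _ = Nat.card B * (Nat.card V * Nat.card ↥(U ⊓ centralizer (A : Set G))) := by ring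
      _ = _ := by rw [← h5]; ring
  have hBU : B ≤ centralizer (U : Set G) :=
    t.cut hAB inf_le_left (fun h7 => hne (inf_eq_left.1 h7)) (h6.trans (Nat.mul_le_mul_left _ h3))
  refine ⟨hBU, ?_⟩
  have h7 := t.best hAB inf_le_left
  have e1 : U ⊓ centralizer (B : Set G) = U := inf_eq_left.2 (le_centralizer_iff.1 hBU)
  rw [e1] at h7
  have h8 : Nat.card U ≤ Nat.card ↥(V ⊔ (U ⊓ centralizer (A : Set G))) :=
    Nat.le_of_mul_le_mul_left (h7.trans h6) Nat.card_pos
  have h9 : V ⊔ (U ⊓ centralizer (A : Set G)) = U :=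
    Subgroup.eq_of_le_of_card_ge (sup_le hVU inf_le_left) h8
  intro u hu
  rw [← h9] at hu
  have h10 : V ≤ normalizer ((U ⊓ centralizer (A : Set G) : Subgroup G) : Set G) :=
    h4.trans (centralizer_le_normalizer _)
  have h11 : u ∈ ((V ⊔ (U ⊓ centralizer (A : Set G)) : Subgroup G) : Set G) := hu
  rw [coe_mul_of_left_le_normalizer_right _ _ h10] at h11
  obtain ⟨v, hv, c, hc, rfl⟩ := h11
  exact ⟨v, hv, c, hc.1, mem_centralizer_iff.1 hc.2, rfl⟩

end Tt

variable {F : Type} [Field F] {S P' V D : Subgroup G} {k : ℕ}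

/-- **(E), natural type** (copy of `Nb.one`): `A` acts as the full root group of one block, `U = V_i C_U(A)`. -/
theorem Tt.one [Finite G] [Finite F] [CharP F 2] {M : NatKM F S P' V D k} (h : Nb M) {U A : Subgroup G} (t : Tt U A)
    (hU2 : IsElementaryAbelian 2 U) (hVU : V ≤ U) (hAS : A ≤ S) (hne : ¬ A ≤ centralizer (V : Set G)) :
    ∃ i, One M U A i := by
  have hAP : A ≤ P' := hAS.trans h.SP'
  obtain ⟨I, hI1, hI2⟩ := M.offM A hAS (t.offM hU2 hVU hne)
  -- `I` is not empty
  obtain ⟨i, hi⟩ : I.Nonempty := by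
    by_contra hne'
    rw [Set.not_nonempty_iff_eq_empty] at hne'
    refine hne fun a ha => mem_centralizer_iff.2 fun v hv => ?_
    obtain ⟨b, hb, hab⟩ := hI1 a ha
    have e : (fun i => up (b i)) = (1 : Fin k → Matrix.SpecialLinearGroup (Fin 2) F) := by
      funext l
      rw [hb l (by rw [hne']; exact fun h => h), up_zero]
      rfl
    rw [e] at hab
    exact (h.comm_of_one (hAP ha) hab hv).symm
  -- the element `a` with entry 1
  classical
  have hsg : ∀ l ∈ I, ∀ β, ∃ a ∈ A, ActsSL M.e V D a (sg l (up β)) := fun l hl β => by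
    obtain ⟨a, ha, hab⟩ := hI2 (Function.update 0 l β) fun j hj => by
      rw [Function.update_of_ne (fun e => hj (by rw [e]; exact hl))]
      rfl
    refine ⟨a, ha, ?_⟩
    have e : (fun j => up (Function.update (0 : Fin k → F) l β j)) = sg l (up β) := by
      funext j
      by_cases hj : j = l
      · rw [hj, Function.update_self, sg_self]
      · rw [Function.update_of_ne hj, sg_ne hj, Pi.zero_apply, up_zero]
    rwa [e] at hab
  -- `C_V(A)` is in `{e v i 1 = 0}`
  have hcen : ∀ v ∈ V, (∀ a ∈ A, a * v = v * a) → M.e v i 1 = 0 := fun v hv hc => by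
    obtain ⟨a, ha, hab⟩ := hsg i hi 1
    have h1 := hab.1 v hv i
    rw [sg_self] at h1
    have h2 : a * v * a⁻¹ = v := by rw [hc a ha]; group
    have h3 := congrFun h1 0
    rw [h2, ap_up_0, one_mul] at h3
    exact left_eq_add.1 h3
  obtain ⟨w0, hw0, hw0i, hw0l⟩ := Nb.exists_single M i ![0, 1]
  let B := Nb.Ai M A hAP h.VP' i
  have hBA : B ≤ A := fun a ha => ha.1
  -- entries
  have hent : ∀ a ∈ A, ∃ b : Fin k → F, (∀ l, l ∉ I → b l = 0) ∧ ActsSL M.e V D a (fun l => up (b l)) ∧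
      M.e (a * w0 * a⁻¹) i 0 = b i := fun a ha => by
    obtain ⟨b, hb, hab⟩ := hI1 a ha
    exact ⟨b, hb, hab, h.up_entry hab hw0 hw0i⟩
  have hBb : ∀ a ∈ A, ∀ b : Fin k → F, ActsSL M.e V D a (fun l => up (b l)) → (a ∈ B ↔ b i = 0) := by
    intro a ha b hab
    constructor
    · intro haB
      have h1 := haB.2 w0 hw0
      have h2 := h.up_entry hab hw0 hw0i
      rw [h1, hw0i] at h2
      exact h2.symm
    · intro h0
      refine ⟨ha, fun v hv => ?_⟩
      have h1 := hab.1 v hv i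
      simp only [h0, up_zero, ap_one] at h1
      exact h1
  have h1B : A ⊓ centralizer (U : Set G) ≤ B := fun a ha => by
    refine ⟨ha.1, fun v hv => ?_⟩
    have h1 : a * v * a⁻¹ = v := by
      rw [← (mem_centralizer_iff.1 ha.2 v (hVU hv))]
      group
    rw [h1]
  have hBne : B ≠ A := fun e => by
    obtain ⟨a, ha, hab⟩ := hsg i hi 1
    have haB : a ∈ B := by rw [e]; exact ha
    have h1 := haB.2 w0 hw0
    have h2 := hab.1 w0 hw0 i
    rw [h1, sg_self, hw0i] at h2
    have h3 := congrFun h2 0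
    rw [ap_up_0] at h3
    simp at h3
  -- `B` centralises the `i`-th summand
  have hBV : ∀ a ∈ B, ∀ v ∈ V, (∀ l, l ≠ i → M.e v l = 0) → a * v = v * a := by
    intro a ha v hv hvl
    obtain ⟨b, hb, hab⟩ := hI1 a ha.1
    have h0 := (hBb a ha.1 b hab).1 ha
    exact h.dir (hAP ha.1) hab (by simp only [h0, up_zero]) hv hvl
  -- `|A| ≤ |F| |B|`
  have hcA : Nat.card A ≤ Nat.card F * Nat.card B := by
    refine card_le_of_map (fun a => M.e (a * w0 * a⁻¹) i 0) fun a ha a' ha' he => ?_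
    obtain ⟨b, hb, hab, hbi⟩ := hent a ha
    obtain ⟨b', hb', hab', hbi'⟩ := hent a' ha'
    have h1 : b i = b' i := by rw [← hbi, ← hbi']; exact he
    have h2 := h.acts_mul (hAP ha') (h.acts_inv (hAP ha) hab) hab'
    have e : ((fun l => up (b l))⁻¹ * fun l => up (b' l)) = fun l => up (-(b l) + b' l) := by
      funext l
      rw [Pi.mul_apply, Pi.inv_apply, up_inv, up_mul]
    rw [e] at h2
    exact (hBb _ (mul_mem (inv_mem ha) ha') _ h2).2 (by rw [h1, neg_add_cancel])
  -- the elements `w x`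
  have hw : ∀ x : F, ∃ w ∈ V, M.e w i = ![0, x] ∧ ∀ l, l ≠ i → M.e w l = 0 := fun x => Nb.exists_single M i _
  choose w hwV hwi hwl using hw
  have hinj : ∀ x c y d, c ∈ U → (∀ a ∈ A, a * c = c * a) → d ∈ U → (∀ a ∈ A, a * d = d * a) →
      w x * c = w y * d → x = y ∧ c = d := by
    intro x c y d hc hca hd hda e
    have h1 : (w y)⁻¹ * w x = d * c⁻¹ := by
      calc (w y)⁻¹ * w x = (w y)⁻¹ * (w x * c) * c⁻¹ := by group
        _ = (w y)⁻¹ * (w y * d) * c⁻¹ := by rw [e]
        _ = d * c⁻¹ := by group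
    have h2 := hcen _ (mul_mem (inv_mem (hwV y)) (hwV x)) (fun a ha => by
      rw [h1]
      exact (show Commute a d from hda a ha).mul_right ((show Commute a c from hca a ha).inv_right))
    rw [M.mul _ (inv_mem (hwV y)) _ (hwV x), h.e_inv (hwV y), Pi.add_apply, Pi.add_apply, hwi, hwi] at h2
    simp only [Matrix.cons_val_one, Matrix.cons_val_zero] at h2
    have h3 : x = y := by
      rw [add_comm] at h2
      exact CharTwo.add_eq_zero.1 h2
    refine ⟨h3, ?_⟩
    rw [h3] at e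
    exact mul_left_cancel e
  have hcU : Nat.card F * Nat.card ↥(U ⊓ centralizer (A : Set G)) ≤ Nat.card ↥(U ⊓ centralizer (B : Set G)) := by
    rw [← Nat.card_prod]
    refine Nat.card_le_card_of_injective
      (fun p : F × ↥(U ⊓ centralizer (A : Set G)) =>
        (⟨w p.1 * p.2, mul_mem ?_ ?_⟩ : ↥(U ⊓ centralizer (B : Set G)))) fun p q e => ?_
    · exact ⟨hVU (hwV _), mem_centralizer_iff.2 fun a ha => hBV a ha _ (hwV _) (hwl _)⟩
    · exact ⟨p.2.2.1, mem_centralizer_iff.2 fun a ha => mem_centralizer_iff.1 p.2.2.2 a (hBA ha)⟩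
    · have h1 := hinj p.1 p.2 q.1 q.2 p.2.2.1 (mem_centralizer_iff.1 p.2.2.2) q.2.2.1
        (mem_centralizer_iff.1 q.2.2.2) (congrArg Subtype.val e)
      exact Prod.ext h1.1 (Subtype.ext h1.2)
  have hBU : B ≤ centralizer (U : Set G) := by
    refine t.cut h1B hBA hBne ?_
    calc Nat.card A * Nat.card ↥(U ⊓ centralizer (A : Set G)) ≤
        Nat.card F * Nat.card B * Nat.card ↥(U ⊓ centralizer (A : Set G)) := Nat.mul_le_mul_right _ hcA
      _ = Nat.card B * (Nat.card F * Nat.card ↥(U ⊓ centralizer (A : Set G))) := by ring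
      _ ≤ _ := Nat.mul_le_mul_left _ hcU
  have hUB : U ⊓ centralizer (B : Set G) = U := inf_eq_left.2 (le_centralizer_iff.1 hBU)
  -- `|U| ≤ |F| |C_U(A)|`
  have hUc : Nat.card U ≤ Nat.card F * Nat.card ↥(U ⊓ centralizer (A : Set G)) := by
    have h1 := t.best h1B hBA
    rw [hUB] at h1
    have hp : 0 < Nat.card B := Nat.card_pos
    refine Nat.le_of_mul_le_mul_left ?_ hp
    calc Nat.card B * Nat.card U ≤ Nat.card A * Nat.card ↥(U ⊓ centralizer (A : Set G)) := h1
      _ ≤ Nat.card F * Nat.card B * Nat.card ↥(U ⊓ centralizer (A : Set G)) := Nat.mul_le_mul_right _ hcA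
      _ = _ := by ring
  have hfull : ∀ u ∈ U, ∃ x c, c ∈ U ∧ (∀ a ∈ A, a * c = c * a) ∧ u = w x * c := by
    let f : F × ↥(U ⊓ centralizer (A : Set G)) → U := fun p => ⟨w p.1 * p.2, mul_mem (hVU (hwV _)) p.2.2.1⟩
    have hf : Function.Injective f := fun p q e => by
      have h1 := hinj p.1 p.2 q.1 q.2 p.2.2.1 (mem_centralizer_iff.1 p.2.2.2) q.2.2.1
        (mem_centralizer_iff.1 q.2.2.2) (congrArg Subtype.val e)
      exact Prod.ext h1.1 (Subtype.ext h1.2)
    have hb := hf.bijective_of_nat_card_le (by rw [Nat.card_prod]; exact hUc)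
    intro u hu
    obtain ⟨p, hp⟩ := hb.2 ⟨u, hu⟩
    exact ⟨p.1, p.2, p.2.2.1, mem_centralizer_iff.1 p.2.2.2, (congrArg Subtype.val hp).symm⟩
  refine ⟨i, fun a ha => ?_, hsg i hi, fun u hu => ?_, fun v hv => ⟨hcen v hv, fun h0 => ?_⟩⟩
  · -- `I = {i}`
    obtain ⟨b, hb, hab⟩ := hI1 a ha
    refine ⟨b i, ?_⟩
    have e : (fun l => up (b l)) = sg i (up (b i)) := by
      refine eq_sg (A := fun l => up (b l)) fun l hl => ?_
      by_cases hlI : l ∈ I
      · exfalso
        obtain ⟨a', ha', hab'⟩ := hsg l hlI 1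
        have haB : a' ∈ B := by
          refine ⟨ha', fun v hv => ?_⟩
          rw [hab'.1 v hv i, sg_ne (fun e => hl e.symm), ap_one]
        obtain ⟨w1, hw1, hw1l, -⟩ := Nb.exists_single M l ![0, 1]
        have h2 := mem_centralizer_iff.1 (hBU haB) w1 (hVU hw1)
        have h3 : a' * w1 * a'⁻¹ = w1 := by rw [← h2]; group
        have h4 := congrFun (hab'.1 w1 hw1 l) 0
        rw [h3, sg_self, hw1l, ap_up_0] at h4
        simp at h4
      · simp only [hb l hlI, up_zero]
    rwa [e] at hab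
  · obtain ⟨x, c, hc, hca, e⟩ := hfull u hu
    exact ⟨w x, hwV x, hwl x, c, hc, hca, e⟩
  · obtain ⟨x, c, hc, hca, e⟩ := hfull v (hVU hv)
    have hcV : c ∈ V := by
      have h1 : c = (w x)⁻¹ * v := by rw [e]; group
      rw [h1]
      exact mul_mem (inv_mem (hwV x)) hv
    have h1 := hcen c hcV hca
    have h2 := congrFun (congrFun (M.mul _ (hwV x) _ hcV) i) 1
    rw [← e, h0, Pi.add_apply, Pi.add_apply, h1, hwi] at h2
    have h3 : x = 0 := by simpa using h2.symm
    have h4 : w x ∈ D := by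
      rw [← M.ker _ (hwV x)]
      funext l
      by_cases hl : l = i
      · rw [hl, hwi, h3]
        refine vec_eq ?_ ?_ <;> simp
      · exact hwl x l hl
    intro a ha
    obtain ⟨b, -, hab⟩ := hI1 a ha
    rw [e]
    exact (show Commute a (w x) from hab.2 _ h4).mul_right (hca a ha)

end Cfsg.Agent.Omega.NOThreeL.RRed.NS
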