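import Cfsg.Agent.Omega.NOThreeL.RRed.NS.Same
import Cfsg.Agent.Omega.NOThreeL.RRed.NS.GOne

/-!
# Members of `EE` do not mix types

`P` natural over `F`, `|F| > 2`, `P'` symmetric or natural over a field of another order: no member of `EE` moves both
`V_P` and `V_P'` (`Diff`).
-/

set_option autoImplicit false
set_option linter.unusedSectionVars false

namespace Cfsg.Agent.Omega.NOThreeL.RRed.NS

open Subgroup Cfsg Cfsg.Agent.ZN Cfsg.Agent.ZN.ChoiceBase Cfsg.Agent.Omega.MinPar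
open Cfsg.Agent.Omega.FFThm (NatKM SymKM OffM ElemM NoOverM StmtM ConclM syl_of_sylow)
open Cfsg.Agent.Omega.FrameFF (cv)
open Cfsg.Agent.Omega.NO3S.ThmB Cfsg.Agent.Omega.NO3S.KeyRad

universe u

variable {G : Type u} [Group G] [Finite G] {S : Sylow 2 G} {P P' U : Subgroup G}

/-- natural, `|F| > 2`, and symmetric -/
theorem diff_of_sym (hG : IsCharacteristicTwoType G) (hP : IsParS (S : Subgroup G) P)
    (hP' : IsParS (S : Subgroup G) P') (hU2 : IsElementaryAbelian 2 U) (hPU : P ≤ normalizer (U : Set G))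
    (hP'U : P' ≤ normalizer (U : Set G)) (hZU : zc (S : Subgroup G) ≤ U) {F : Type} [Field F] [Finite F] [CharP F 2]
    {k : ℕ} (M : NatKM F (S : Subgroup G) P (zl (S : Subgroup G) P) (cv (S : Subgroup G) P) k)
    (hF : 2 < Nat.card F) {k' m : ℕ} (hm : 2 ≤ m)
    (N : SymKM (S : Subgroup G) P' (zl (S : Subgroup G) P') (cv (S : Subgroup G) P') k' m) :
    Diff (S : Subgroup G) P P' U := by
  intro A hA t
  by_contra hcon
  push Not at hcon
  obtain ⟨h1, h2⟩ := hcon
  have h := Inst.nb hG hP M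
  have hVU : zl (S : Subgroup G) P ≤ U := ZN.zl_le hZU hPU
  have hVU' : zl (S : Subgroup G) P' ≤ U := ZN.zl_le hZU hP'U
  obtain ⟨i, O⟩ := t.one h hU2 hVU hA h1
  obtain ⟨i', x, y, s, n0, O'⟩ := Tt.oneS (Inst.sb hG hP' hm N) t hU2 hVU' hA h2
  exact One.not_oneS hF O hVU O'

/-- natural over fields of different orders -/
theorem diff_of_card (hG : IsCharacteristicTwoType G) (hP : IsParS (S : Subgroup G) P)
    (hP' : IsParS (S : Subgroup G) P') (hU2 : IsElementaryAbelian 2 U) (hPU : P ≤ normalizer (U : Set G))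
    (hP'U : P' ≤ normalizer (U : Set G)) (hZU : zc (S : Subgroup G) ≤ U) {F F' : Type} [Field F] [Finite F]
    [CharP F 2] [Field F'] [Finite F'] [CharP F' 2] {k k' : ℕ}
    (M : NatKM F (S : Subgroup G) P (zl (S : Subgroup G) P) (cv (S : Subgroup G) P) k)
    (M' : NatKM F' (S : Subgroup G) P' (zl (S : Subgroup G) P') (cv (S : Subgroup G) P') k')
    (hne : Nat.card F ≠ Nat.card F') : Diff (S : Subgroup G) P P' U := by
  intro A hA t
  by_contra hcon
  push Not at hcon
  obtain ⟨h1, h2⟩ := hcon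
  have h := Inst.nb hG hP M
  have h' := Inst.nb hG hP' M'
  have hVU : zl (S : Subgroup G) P ≤ U := ZN.zl_le hZU hPU
  have hVU' : zl (S : Subgroup G) P' ≤ U := ZN.zl_le hZU hP'U
  obtain ⟨i, O⟩ := t.one h hU2 hVU hA h1
  obtain ⟨i', O'⟩ := t.one h' hU2 hVU' hA h2
  exact hne (le_antisymm (card_le_of_one h' O O' (hA.trans hP'.le) hVU) (card_le_of_one h O' O (hA.trans hP.le) hVU'))

end Cfsg.Agent.Omega.NOThreeL.RRed.NS
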