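import Cfsg.Agent.Omega.NO3S.KeyRad.Star

/-!
# THEOREM NS (#24102), the module: coordinates of a block with a radical

`M` is an elementary abelian `SL₂(F)`-module (`|F| > 2` even) with a quotient `π : M → F²` of natural type whose kernel `D`
is centralised by `SL₂(F)`, and `M = [M, SL₂(F)]` (`StarD`).

* `exists_lg` : there are additive maps `l : F → M` (`π (l s) = (s, 0)`) and `g : F → D` ONTO `D` with
  `[m, up β] = l (β c) + g (β c²)`, `c = π m 1`.
-/

set_option autoImplicit false
set_option linter.unusedSectionVars false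

namespace Cfsg.Agent.Omega.NOThreeL.RRed.NS

open Cfsg.Agent.Lib.SL2Mat Cfsg.Agent.Omega.NatPair
open Cfsg.Agent.Omega.NO3S.KeyRad

/-- the square root, additively -/
noncomputable def rt (F : Type*) [Field F] [Finite F] [CharP F 2] : F →+ F :=
  (frobeniusEquiv F 2).symm.toRingHom.toAddMonoidHom

theorem rt_sq {F : Type*} [Field F] [Finite F] [CharP F 2] (x : F) : rt F (x ^ 2) = x := by
  change (frobeniusEquiv F 2).symm (x ^ 2) = x
  rw [RingEquiv.symm_apply_eq]
  rfl

theorem rt_mul_self {F : Type*} [Field F] [Finite F] [CharP F 2] (x : F) : rt F x ^ 2 = x := by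
  change (frobeniusEquiv F 2).symm x ^ 2 = x
  have h : frobeniusEquiv F 2 ((frobeniusEquiv F 2).symm x) = x := RingEquiv.apply_symm_apply _ _
  exact h

/-- **The coordinates of a block.** -/
theorem exists_lg {F : Type*} [Field F] [Finite F] [CharP F 2] (hF : 2 < Nat.card F) {M : Type*} [AddCommGroup M]
    [Finite M] (h2 : ∀ m : M, m + m = 0) (ρ : Matrix.SpecialLinearGroup (Fin 2) F → M →+ M)
    (hρ : ∀ A B m, ρ (A * B) m = ρ A (ρ B m)) (h1 : ∀ m, ρ 1 m = m) (π : M →+ (Fin 2 → F))
    (hπ : ∀ A m, π (ρ A m) = ap A (π m)) (hker : ∀ A m, π m = 0 → ρ A m = m) (hsurj : Function.Surjective π)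
    (hgen : ∀ N : AddSubgroup M, (∀ A m, ρ A m - m ∈ N) → N = ⊤) :
    ∃ l g : F →+ M, (∀ s, π (l s) = ![s, 0]) ∧ (∀ x, π (g x) = 0) ∧ (∀ d, π d = 0 → ∃ x, g x = d) ∧
      ∀ β m, ρ (up β) m - m = l (β * π m 1) + g (β * π m 1 ^ 2) := by
  have H : StarD ρ π := ⟨CharTwo.add_self_eq_zero, h2, hρ, h1, hπ, hker, hsurj⟩
  obtain ⟨t, ht, ht1⟩ : ∃ t : F, t ≠ 0 ∧ t ≠ 1 := by
    by_contra hcon
    push Not at hcon
    have hs : (Set.univ : Set F) ⊆ {0, 1} := by
      intro x _
      rcases eq_or_ne x 0 with h | h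
      · exact Or.inl h
      · exact Or.inr (hcon x h)
    have h3 := Set.ncard_le_ncard hs (Set.toFinite _)
    rw [Set.ncard_univ, Set.ncard_pair zero_ne_one] at h3
    omega
  -- the defect as an additive map
  let f : F →+ M :=
    { toFun := fun c => H.ph ht 1 c
      map_zero' := by
        rw [StarD.ph, mul_zero, map_zero, sub_zero]
        have e : (![0, 0] : Fin 2 → F) = 0 := ext2 (by simp) (by simp)
        rw [e, map_zero]
      map_add' := fun c d => by
        rw [StarD.ph, StarD.ph, StarD.ph, mul_add, map_add]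
        have e : (![0, c + d] : Fin 2 → F) = ![0, c] + ![0, d] := ext2 (by simp) (by simp)
        rw [e, map_add]
        abel }
  have hf : ∀ c, f c = H.ph ht 1 c := fun c => rfl
  refine ⟨H.P ht, f.comp (rt F), fun s => H.pi_P ht ht1 s, fun x => H.pi_ph ht ht1 1 _, fun d hd => ?_, fun β m => ?_⟩
  · -- onto
    by_contra hcon
    push Not at hcon
    let _ : Module (ZMod 2) M := AddCommGroup.zmodModule (n := 2) (fun m => by rw [two_nsmul, h2])
    have hdS : d ∉ f.range := by
      rintro ⟨c, hc⟩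
      refine hcon (c ^ 2) ?_
      rw [AddMonoidHom.comp_apply, rt_sq, hc]
    obtain ⟨l0, hl, hlS⟩ := Submodule.exists_dual_map_eq_bot_of_notMem
      (p := AddSubgroup.toZModSubmodule 2 f.range) (x := d) hdS inferInstance
    have hlS' : ∀ x ∈ f.range, l0 x = 0 := by
      intro x hx
      have h3 : l0 x ∈ Submodule.map l0 (AddSubgroup.toZModSubmodule 2 f.range) := ⟨x, hx, rfl⟩
      rw [hlS] at h3
      exact (Submodule.mem_bot _).1 h3
    let l : M →+ ZMod 2 := l0.toAddMonoidHom
    have hlr : l d ≠ 0 := hl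
    have hlph : ∀ c, l (H.ph ht 1 c) = 0 := fun c => hlS' _ ⟨c, rfl⟩
    have htop := hgen (H.th ht l).ker (fun A m => by
      rw [AddMonoidHom.mem_ker, map_sub, H.th_inv ht ht1 l hlph, sub_self])
    have hr0 : H.th ht l d = 0 := by
      have : d ∈ (H.th ht l).ker := by rw [htop]; exact AddSubgroup.mem_top _
      exact this
    rw [H.th_apply, hd] at hr0
    simp only [Pi.zero_apply, map_zero, sub_zero] at hr0
    exact hlr hr0
  · rw [← H.dl_eq, H.up_dep, AddMonoidHom.comp_apply, hf]
    set c := π m 1 with hc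
    rcases eq_or_ne β 0 with rfl | hβ
    · rw [zero_mul, zero_mul, map_zero, map_zero, zero_add, StarD.ph, mul_zero, map_zero, sub_zero,
        H.dl_eq' _ (H.pi_sc _), up_zero, H.h1, sub_self]
      have e : (![0, 0] : Fin 2 → F) = 0 := ext2 (by simp) (by simp)
      rw [e, map_zero]
    · have hs0 : rt F β ≠ 0 := by
        intro h0
        apply hβ
        rw [← rt_mul_self β, h0]
        ring
      have h3 : rt F (β * c ^ 2) = rt F β * c := by
        have h4 : β * c ^ 2 = (rt F β * c) ^ 2 := by rw [mul_pow, rt_mul_self]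
        rw [h4, rt_sq]
      rw [h3, ← H.ph_sq ht ht1 hs0, rt_mul_self, StarD.ph]
      abel

end Cfsg.Agent.Omega.NOThreeL.RRed.NS
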