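import Mathlib

/-!
# NO-3L, box R: THEOREM NS (helper777, #24102), step (3)

`H` (= `X₂ = ⟨P, P'⟩`) acts on `M` (= `V*`, additive), `S` Sylow 2, `EE` a set of 2-subgroups of `S` (closed under
`H`-conjugation into `S`), `J` normal in `H`, blocks `Y b = [M, A]` (`A ∈ EE` of type `b`); for one block `b` there are
`D, l ≤ Y b` such that `Y b` minus the commutators of `A` is `D ∪ l`.

* `Frame S J EE Y`, `Bl S J EE Y b D l`;
* `Frame.card_le` : `S ∩ G_b` has the order of a Sylow group of `G_b = C_H(Y_c : c ≠ b)`;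
* `Frame.mem_D` : a vector `k x ∈ Y_b C(K)` lies in `D_b`;
* **`Frame.false_of`** : contradiction.
-/

set_option autoImplicit false
set_option linter.unusedSectionVars false

namespace Cfsg.Agent.Omega.NOThreeL.RRed.NS

open Subgroup
open scoped Pointwise

universe u v w

variable {H : Type u} {M : Type v} {ι : Type w} [Group H] [AddCommGroup M] [DistribMulAction H M]

/-- the fixed points of `A` -/
def fxd (A : Subgroup H) : AddSubgroup M where
  carrier := {m | ∀ a ∈ A, a • m = m}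
  zero_mem' := fun a _ => smul_zero a
  add_mem' := fun {x y} hx hy a ha => by rw [smul_add, hx a ha, hy a ha]
  neg_mem' := fun {x} hx a ha => by rw [smul_neg, hx a ha]

theorem mem_fxd {A : Subgroup H} {m : M} : m ∈ (fxd A : AddSubgroup M) ↔ ∀ a ∈ A, a • m = m := Iff.rfl

/-- `[M, A]` -/
def brk (M : Type v) [AddCommGroup M] [DistribMulAction H M] (A : Subgroup H) : AddSubgroup M :=
  AddSubgroup.closure {m | ∃ a ∈ A, ∃ v : M, a • v - v = m}

/-- `G_b = C_H(Y_c : c ≠ b)` -/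
def GB (Y : ι → AddSubgroup M) (b : ι) : Subgroup H where
  carrier := {g | ∀ c, c ≠ b → ∀ y ∈ Y c, g • y = y}
  one_mem' := fun c _ y _ => one_smul _ _
  mul_mem' := fun {x y} hx hy c hc z hz => by rw [mul_smul, hy c hc z hz, hx c hc z hz]
  inv_mem' := fun {x} hx c hc z hz => by
    rw [inv_smul_eq_iff]
    exact (hx c hc z hz).symm

theorem mem_GB {Y : ι → AddSubgroup M} {b : ι} {g : H} :
    g ∈ (GB Y b : Subgroup H) ↔ ∀ c, c ≠ b → ∀ y ∈ Y c, g • y = y := Iff.rfl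

/-- The frame of THEOREM NS (3). -/
structure Frame (S : Sylow 2 H) (J : Subgroup H) (EE : Set (Subgroup H)) (Y : ι → AddSubgroup M) : Prop where
  JN : J.Normal
  EES : ∀ A ∈ EE, A ≤ S
  EEc : ∀ A ∈ EE, ∀ h : H, MulAut.conj h • A ≤ S → MulAut.conj h • A ∈ EE
  typ : ∀ A ∈ EE, ¬ A ≤ J → ∃ b, brk M A = Y b
  ex : ∀ b, ∃ A ∈ EE, ¬ A ≤ J ∧ brk M A = Y b
  cent : ∀ A ∈ EE, ∀ c, ∀ y ∈ Y c, ∀ a ∈ A, a • y = y
  inj : ∀ b c, Y b = Y c → b = c

/-- The two subgroups `D`, `l` of the block `b`. -/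
structure Bl (S : Sylow 2 H) (J : Subgroup H) (EE : Set (Subgroup H)) (Y : ι → AddSubgroup M) (b : ι)
    (D l : AddSubgroup M) : Prop where
  DY : D ≤ Y b
  lY : l ≤ Y b
  Dl : D ⊓ l = ⊥
  SD : ∀ s ∈ S, s • Y b = Y b → s • D = D
  cov : ∀ A ∈ EE, ¬ A ≤ J → brk M A = Y b → ∀ m ∈ Y b,
    (∃ a ∈ A, ∃ v : M, a • v - v = m) ↔ m = 0 ∨ (m ∉ D ∧ m ∉ l)

/-! ### pure lemmas -/

theorem mem_conj {x y : H} {A : Subgroup H} : y ∈ MulAut.conj x • A ↔ x⁻¹ * y * x ∈ A := by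
  rw [Subgroup.mem_pointwise_smul_iff_inv_smul_mem, ← map_inv, MulAut.smul_def, MulAut.conj_apply, inv_inv]

theorem conj_mem' {x a : H} {A : Subgroup H} (ha : a ∈ A) : x * a * x⁻¹ ∈ MulAut.conj x • A := by
  rw [mem_conj]
  have e1 : x⁻¹ * (x * a * x⁻¹) * x = a := by group
  rwa [e1]

theorem conj_conj (x y : H) (A : Subgroup H) : MulAut.conj x • MulAut.conj y • A = MulAut.conj (x * y) • A := by
  rw [smul_smul, ← map_mul]

theorem conj_one (A : Subgroup H) : MulAut.conj (1 : H) • A = A := by rw [map_one, one_smul]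

theorem conj_inv_conj (x : H) (A : Subgroup H) : MulAut.conj x⁻¹ • MulAut.conj x • A = A := by
  rw [conj_conj, inv_mul_cancel, conj_one]

theorem conj_conj_inv (x : H) (A : Subgroup H) : MulAut.conj x • MulAut.conj x⁻¹ • A = A := by
  rw [conj_conj, mul_inv_cancel, conj_one]

theorem conj_le_iff {x : H} {A B : Subgroup H} : MulAut.conj x • A ≤ MulAut.conj x • B ↔ A ≤ B :=
  Subgroup.pointwise_smul_le_pointwise_smul_iff

theorem conj_eq_of_mem {x : H} {A : Subgroup H} (hx : x ∈ A) : MulAut.conj x • A = A :=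
  Subgroup.conj_smul_eq_self_of_mem hx

theorem card_conj (x : H) (A : Subgroup H) : Nat.card (MulAut.conj x • A : Subgroup H) = Nat.card A :=
  (Nat.card_congr (Subgroup.equivSMul (MulAut.conj x) A).toEquiv).symm

theorem isPGroup_conj {p : ℕ} (x : H) {A : Subgroup H} (h : IsPGroup p A) :
    IsPGroup p (MulAut.conj x • A : Subgroup H) :=
  h.of_equiv (Subgroup.equivSMul (MulAut.conj x) A)

theorem conj_normal {J : Subgroup H} (hJ : J.Normal) (g : H) : MulAut.conj g • J = J := by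
  ext x
  rw [mem_conj]
  constructor
  · intro h
    have h1 := hJ.conj_mem _ h g
    have e1 : g * (g⁻¹ * x * g) * g⁻¹ = x := by group
    rwa [e1] at h1
  · intro h
    have h1 := hJ.conj_mem _ h g⁻¹
    rwa [inv_inv] at h1

theorem le_normalizer_of {A B : Subgroup H} (h : ∀ a ∈ A, ∀ b ∈ B, a * b * a⁻¹ ∈ B) :
    A ≤ normalizer (B : Set H) := by
  intro a ha
  rw [Subgroup.mem_normalizer_iff]
  intro b
  refine ⟨h a ha b, fun hb => ?_⟩
  have h1 := h a⁻¹ (inv_mem ha) _ hb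
  have e1 : a⁻¹ * (a * b * a⁻¹) * a⁻¹⁻¹ = b := by group
  rwa [e1] at h1

/-- A 2-subgroup of `C ≥ T` is `C`-conjugate into `T`, if `T` is a 2-subgroup of `C` of maximal order. -/
theorem conj_le_of_card [Finite H] {C T A : Subgroup H} (hT : IsPGroup 2 T) (hTC : T ≤ C) (hA : IsPGroup 2 A)
    (hAC : A ≤ C) (hmax : ∀ R ≤ C, IsPGroup 2 R → Nat.card R ≤ Nat.card T) :
    ∃ c ∈ C, MulAut.conj c • A ≤ T := by
  have : Fact (Nat.Prime 2) := ⟨Nat.prime_two⟩
  have hT' : IsPGroup 2 (T.subgroupOf C) := hT.comap_of_injective C.subtype C.subtype_injective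
  have hA' : IsPGroup 2 (A.subgroupOf C) := hA.comap_of_injective C.subtype C.subtype_injective
  obtain ⟨T₁, hT₁⟩ := hT'.exists_le_sylow
  obtain ⟨A₁, hA₁⟩ := hA'.exists_le_sylow
  have h1 : (T₁ : Subgroup C).map C.subtype = T := by
    symm
    have hle : T ≤ (T₁ : Subgroup C).map C.subtype := by
      intro t ht
      exact ⟨⟨t, hTC ht⟩, hT₁ (mem_subgroupOf.2 ht), rfl⟩
    refine Subgroup.eq_of_le_of_card_ge hle (hmax _ ?_ (T₁.isPGroup'.map _))
    rintro _ ⟨y, -, rfl⟩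
    exact y.2
  obtain ⟨c, hc⟩ := MulAction.exists_smul_eq C A₁ T₁
  refine ⟨c, c.2, ?_⟩
  intro y hy
  rw [mem_conj] at hy
  have h2 : (⟨(c : H)⁻¹ * y * c, hAC hy⟩ : C) ∈ (A₁ : Subgroup C) := hA₁ (mem_subgroupOf.2 hy)
  have h3 : c * (⟨(c : H)⁻¹ * y * c, hAC hy⟩ : C) * c⁻¹ ∈ (T₁ : Subgroup C) := by
    rw [← hc, Sylow.coe_subgroup_smul, mem_conj]
    have e1 : c⁻¹ * (c * (⟨(c : H)⁻¹ * y * c, hAC hy⟩ : C) * c⁻¹) * c = ⟨(c : H)⁻¹ * y * c, hAC hy⟩ := by group
    rw [e1]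
    exact h2
  rw [← h1]
  refine ⟨_, h3, ?_⟩
  simp only [coe_subtype, coe_mul, coe_inv]
  group

/-- A 2-subgroup of `C ≥ S` is in a `C`-conjugate of `S`. -/
theorem exists_conj_le [Finite H] (S : Sylow 2 H) {C Q : Subgroup H} (hSC : (S : Subgroup H) ≤ C)
    (hQ : IsPGroup 2 Q) (hQC : Q ≤ C) : ∃ m ∈ C, Q ≤ MulAut.conj m • (S : Subgroup H) := by
  have : Fact (Nat.Prime 2) := ⟨Nat.prime_two⟩
  obtain ⟨c, hc, h⟩ := conj_le_of_card (C := C) (T := S) S.isPGroup' hSC hQ hQC (by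
    intro R _ hR
    obtain ⟨T, hT⟩ := hR.exists_le_sylow
    refine (Nat.card_le_card_of_injective _ (Subgroup.inclusion_injective hT)).trans ?_
    exact le_of_eq (Nat.card_congr (Sylow.equiv T S).toEquiv))
  refine ⟨c⁻¹, inv_mem hc, ?_⟩
  have h1 := (conj_le_iff (x := c⁻¹)).2 h
  rwa [conj_inv_conj] at h1

/-- an additive subgroup in the union of two -/
theorem le_or_le {A B C : AddSubgroup M} (h : ∀ x ∈ A, x ∈ B ∨ x ∈ C) : A ≤ B ∨ A ≤ C := by
  by_contra hcon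
  push Not at hcon
  obtain ⟨h1, h2⟩ := hcon
  obtain ⟨x, hx, hxB⟩ := SetLike.not_le_iff_exists.1 h1
  obtain ⟨y, hy, hyC⟩ := SetLike.not_le_iff_exists.1 h2
  have hxC : x ∈ C := (h x hx).resolve_left hxB
  have hyB : y ∈ B := (h y hy).resolve_right hyC
  rcases h (x + y) (add_mem hx hy) with h3 | h3
  · exact hxB (by simpa using sub_mem h3 hyB)
  · exact hyC (by simpa using sub_mem h3 hxC)

theorem mem_smul' {h : H} {A : AddSubgroup M} {m : M} : m ∈ h • A ↔ h⁻¹ • m ∈ A :=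
  AddSubgroup.mem_pointwise_smul_iff_inv_smul_mem

theorem card_smul' (h : H) (A : AddSubgroup M) : Nat.card (h • A : AddSubgroup M) = Nat.card A := by
  refine Nat.card_congr ⟨fun x => ⟨h⁻¹ • (x : M), mem_smul'.1 x.2⟩, fun x => ⟨h • (x : M), ?_⟩, fun x => ?_, fun x => ?_⟩
  · rw [mem_smul', inv_smul_smul]; exact x.2
  · exact Subtype.ext (smul_inv_smul h _)
  · exact Subtype.ext (inv_smul_smul h _)

theorem smul_eq_of_le [Finite M] {h : H} {A : AddSubgroup M} (hA : h • A ≤ A) : h • A = A :=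
  AddSubgroup.eq_of_le_of_card_ge hA (card_smul' h A).ge

theorem smul_le_smul' {h : H} {A B : AddSubgroup M} (hAB : h • A ≤ h • B) : A ≤ B := by
  intro x hx
  have h1 : h • x ∈ h • A := by rw [mem_smul', inv_smul_smul]; exact hx
  have h2 := hAB h1
  rwa [mem_smul', inv_smul_smul] at h2

theorem smul_mono' {h : H} {A B : AddSubgroup M} (hAB : A ≤ B) : h • A ≤ h • B := by
  intro x hx
  rw [mem_smul'] at hx ⊢
  exact hAB hx

theorem smul_bot' (h : H) : h • (⊥ : AddSubgroup M) = ⊥ := by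
  rw [eq_bot_iff]
  intro x hx
  rw [mem_smul', AddSubgroup.mem_bot, inv_smul_eq_iff, smul_zero] at hx
  exact AddSubgroup.mem_bot.2 hx

/-- the two subgroups are preserved or interchanged -/
theorem pair_of_union [Finite M] {h : H} {D l : AddSubgroup M} (hDl : D ⊓ l = ⊥)
    (hp : ∀ m, m ∈ D ∨ m ∈ l → h • m ∈ D ∨ h • m ∈ l) :
    (h • D = D ∧ h • l = l) ∨ (h • D = l ∧ h • l = D) := by
  have h1 : h • D ≤ D ∨ h • D ≤ l := le_or_le fun x hx => by
    have := hp _ (Or.inl (mem_smul'.1 hx))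
    rwa [smul_inv_smul] at this
  have h2 : h • l ≤ D ∨ h • l ≤ l := le_or_le fun x hx => by
    have := hp _ (Or.inr (mem_smul'.1 hx))
    rwa [smul_inv_smul] at this
  rcases h1 with h1 | h1
  · have e1 := smul_eq_of_le h1
    rcases h2 with h2 | h2
    · rw [← e1] at h2
      have h3 := smul_le_smul' h2
      have h4 : l = ⊥ := by rw [← hDl, inf_eq_right.2 h3]
      exact Or.inl ⟨e1, by rw [h4, smul_bot']⟩
    · exact Or.inl ⟨e1, smul_eq_of_le h2⟩
  · rcases h2 with h2 | h2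
    · refine Or.inr ⟨AddSubgroup.eq_of_le_of_card_ge h1 ?_, AddSubgroup.eq_of_le_of_card_ge h2 ?_⟩
      · rw [card_smul']
        have := Nat.card_le_card_of_injective _ (AddSubgroup.inclusion_injective h2)
        rwa [card_smul'] at this
      · rw [card_smul']
        have := Nat.card_le_card_of_injective _ (AddSubgroup.inclusion_injective h1)
        rwa [card_smul'] at this
    · have e2 := smul_eq_of_le h2
      rw [← e2] at h1
      have h3 := smul_le_smul' h1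
      have h4 : D = ⊥ := by rw [← hDl, inf_eq_left.2 h3]
      exact Or.inl ⟨by rw [h4, smul_bot'], e2⟩

theorem smul_brk (h : H) (A : Subgroup H) : h • brk M A = brk M (MulAut.conj h • A) := by
  apply le_antisymm
  · intro x hx
    rw [mem_smul'] at hx
    have h1 : ∀ y ∈ brk M A, h • y ∈ brk M (MulAut.conj h • A) := by
      intro y hy
      induction hy using AddSubgroup.closure_induction with
      | mem y hy =>
        obtain ⟨a, ha, v, rfl⟩ := hy
        refine AddSubgroup.subset_closure ⟨h * a * h⁻¹, conj_mem' ha, h • v, ?_⟩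
        rw [smul_sub, mul_smul, mul_smul, inv_smul_smul]
      | zero => rw [smul_zero]; exact zero_mem _
      | add x y _ _ h1 h2 => rw [smul_add]; exact add_mem h1 h2
      | neg x _ h1 => rw [smul_neg]; exact neg_mem h1
    have h2 := h1 _ hx
    rwa [smul_inv_smul] at h2
  · rw [brk, AddSubgroup.closure_le]
    rintro _ ⟨a, ha, v, rfl⟩
    rw [mem_conj] at ha
    rw [SetLike.mem_coe, mem_smul']
    refine AddSubgroup.subset_closure ⟨_, ha, h⁻¹ • v, ?_⟩
    rw [smul_sub, mul_smul, mul_smul, smul_inv_smul]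

/-! ### the Sylow group of `G_b` -/

namespace Frame

variable [Finite H] [Finite M] {S : Sylow 2 H} {J : Subgroup H} {EE : Set (Subgroup H)} {Y : ι → AddSubgroup M}
  (F : Frame S J EE Y)
include F

theorem le_GB {A : Subgroup H} (hA : A ∈ EE) (b : ι) : A ≤ GB Y b := fun a ha c _ y hy => F.cent A hA c y hy a ha

/-- a conjugation which maps `EE` into `EE` has its inverse mapping `EE` into `EE` -/
theorem inv_EE {g : H} (h : ∀ A ∈ EE, MulAut.conj g • A ∈ EE) : ∀ A ∈ EE, MulAut.conj g⁻¹ • A ∈ EE := by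
  intro A hA
  have hinj : Function.Injective (fun B : EE => (⟨MulAut.conj g • (B : Subgroup H), h B B.2⟩ : EE)) := by
    intro B C hBC
    have h1 := congrArg Subtype.val hBC
    exact Subtype.ext (smul_left_cancel _ h1)
  obtain ⟨B, hB⟩ := (Finite.injective_iff_surjective.1 hinj) ⟨A, hA⟩
  have h1 : MulAut.conj g • (B : Subgroup H) = A := congrArg Subtype.val hB
  rw [← h1, conj_inv_conj]
  exact B.2

/-- an element mapping `EE` into `EE` permutes the `Y b` -/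
theorem exists_Y {g : H} (h : ∀ A ∈ EE, MulAut.conj g • A ∈ EE) (c : ι) : ∃ d, g • Y c = Y d := by
  obtain ⟨A, hA, hJ, ht⟩ := F.ex c
  obtain ⟨d, hd⟩ := F.typ _ (h A hA) fun hle => hJ (by
    have h1 : MulAut.conj g⁻¹ • MulAut.conj g • A ≤ MulAut.conj g⁻¹ • J := conj_le_iff.2 hle
    rw [conj_inv_conj] at h1
    have h2 : MulAut.conj g⁻¹ • J = J := conj_normal F.JN g⁻¹
    rwa [h2] at h1)
  exact ⟨d, by rw [← ht, smul_brk, hd]⟩

theorem S_EE {s : H} (hs : s ∈ S) {A : Subgroup H} (hA : A ∈ EE) : MulAut.conj s • A ∈ EE := by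
  refine F.EEc A hA s ?_
  have h1 := (conj_le_iff (x := s)).2 (F.EES A hA)
  rwa [conj_eq_of_mem hs] at h1

/-- `t ∈ G_b` which permutes the `Y c` normalises `Y b` -/
theorem fix_Y {b : ι} {g : H} (hg : g ∈ (GB Y b : Subgroup H)) {d : ι} (h : g • Y b = Y d) : d = b := by
  by_contra hd
  have h1 : g • Y d = Y d := by
    apply le_antisymm
    · intro y hy
      rw [mem_smul'] at hy
      have h2 := hg d hd _ hy
      rw [smul_inv_smul] at h2
      rw [h2]; exact hy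
    · intro y hy
      rw [mem_smul']
      have h2 := hg d hd _ hy
      rw [← h2, inv_smul_smul]; exact hy
  have h2 : Y b = Y d := smul_left_cancel g (h.trans h1.symm)
  exact hd (F.inj _ _ h2.symm)

/-- **`S ∩ G_b` is Sylow in `G_b`.** -/
theorem card_le (b : ι) {R : Subgroup H} (hR : R ≤ GB Y b) (h2 : IsPGroup 2 R) :
    Nat.card R ≤ Nat.card ((S : Subgroup H) ⊓ GB Y b : Subgroup H) := by
  have : Fact (Nat.Prime 2) := ⟨Nat.prime_two⟩
  -- WLOG `S ∩ G_b ≤ R`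
  set T := (S : Subgroup H) ⊓ GB Y b with hT
  have key : ∀ R : Subgroup H, R ≤ GB Y b → IsPGroup 2 R → T ≤ R → Nat.card R ≤ Nat.card T := by
    intro R hR h2 hTR
    -- `R` normalises `EE`
    obtain ⟨g, -, hg⟩ := exists_conj_le S (C := ⊤) le_top h2 le_top
    have h3 : ∀ A ∈ EE, MulAut.conj g⁻¹ • A ∈ EE := by
      intro A hA
      refine F.EEc A hA _ ?_
      have h4 : A ≤ MulAut.conj g • (S : Subgroup H) := (le_inf (F.EES A hA) (F.le_GB hA b)).trans (hTR.trans hg)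
      have h5 := (conj_le_iff (x := g⁻¹)).2 h4
      rwa [conj_inv_conj] at h5
    have h4 : ∀ A ∈ EE, MulAut.conj g • A ∈ EE := by
      have := F.inv_EE h3
      simpa using this
    have h5 : ∀ r ∈ R, ∀ A ∈ EE, MulAut.conj r • A ∈ EE := by
      intro r hr A hA
      have h6 := hg hr
      rw [mem_conj] at h6
      have h7 := h4 _ (F.S_EE h6 (h3 A hA))
      rw [conj_conj, conj_conj] at h7
      have e1 : g * (g⁻¹ * r * g) * g⁻¹ = r := by group
      rwa [e1] at h7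
    -- `Γ₁`
    let Γ : Subgroup H :=
      { carrier := {x | (∀ A ∈ EE, MulAut.conj x • A ∈ EE) ∧ ∀ c, x • Y c = Y c}
        one_mem' := ⟨fun A hA => by rw [conj_one]; exact hA, fun c => one_smul _ _⟩
        mul_mem' := fun {x y} hx hy => ⟨fun A hA => by
          rw [← conj_conj]; exact hx.1 _ (hy.1 A hA), fun c => by rw [mul_smul, hy.2, hx.2]⟩
        inv_mem' := fun {x} hx => ⟨F.inv_EE hx.1, fun c => by rw [inv_smul_eq_iff, hx.2]⟩ }
    have hRΓ : R ≤ Γ := by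
      intro r hr
      refine ⟨h5 r hr, fun c => ?_⟩
      by_cases hc : c = b
      · subst hc
        obtain ⟨d, hd⟩ := F.exists_Y (h5 r hr) c
        rw [hd, F.fix_Y (hR hr) hd]
      · apply le_antisymm
        · intro y hy
          rw [mem_smul'] at hy
          have h6 := hR hr c hc _ hy
          rw [smul_inv_smul] at h6
          rw [h6]; exact hy
        · intro y hy
          rw [mem_smul']
          have h6 := hR hr c hc _ hy
          rw [← h6, inv_smul_smul]; exact hy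
    have hSΓ : (S : Subgroup H) ≤ normalizer (Γ : Set H) := by
      refine le_normalizer_of fun s hs x hx => ⟨fun A hA => ?_, fun c => ?_⟩
      · rw [← conj_conj, ← conj_conj]
        exact F.S_EE hs (hx.1 _ (F.S_EE (inv_mem hs) hA))
      · obtain ⟨d, hd⟩ := F.exists_Y (fun A hA => F.S_EE (inv_mem hs) hA) c
        rw [mul_smul, mul_smul, hd, hx.2, ← hd, smul_inv_smul]
    obtain ⟨m, hm, hmR⟩ := exists_conj_le S (C := Γ ⊔ S) le_sup_right h2 (hRΓ.trans le_sup_left)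
    have hm' : m ∈ ((Γ ⊔ S : Subgroup H) : Set H) := hm
    rw [coe_mul_of_right_le_normalizer_left _ _ hSΓ] at hm'
    obtain ⟨γ, hγ, s, hs, rfl⟩ := Set.mem_mul.1 hm'
    rw [← conj_conj, conj_eq_of_mem hs] at hmR
    have h6 : MulAut.conj γ⁻¹ • R ≤ T := by
      refine le_inf ?_ ?_
      · have h7 := (conj_le_iff (x := γ⁻¹)).2 hmR
        rwa [conj_inv_conj] at h7
      · intro y hy c hc z hz
        rw [mem_conj, inv_inv] at hy
        have h7 : γ • z ∈ Y c := by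
          rw [← hγ.2 c, mem_smul', inv_smul_smul]; exact hz
        have h8 := hR hy c hc _ h7
        rw [mul_smul, inv_smul_smul, mul_smul] at h8
        exact smul_left_cancel _ h8
    rw [← card_conj γ⁻¹ R]
    exact Nat.card_le_card_of_injective _ (Subgroup.inclusion_injective h6)
  have hTp : IsPGroup 2 T := S.isPGroup'.to_le inf_le_left
  have hT' : IsPGroup 2 (T.subgroupOf (GB Y b)) :=
    hTp.comap_of_injective (GB Y b).subtype (GB Y b).subtype_injective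
  have hR' : IsPGroup 2 (R.subgroupOf (GB Y b)) :=
    h2.comap_of_injective (GB Y b).subtype (GB Y b).subtype_injective
  obtain ⟨T₁, hT₁⟩ := hT'.exists_le_sylow
  obtain ⟨R₁, hR₁⟩ := hR'.exists_le_sylow
  have h3 : Nat.card ((T₁ : Subgroup (GB Y b : Subgroup H)).map (GB Y b).subtype) ≤ Nat.card T := by
    refine key _ ?_ (T₁.isPGroup'.map _) ?_
    · rintro _ ⟨y, -, rfl⟩
      exact y.2
    · intro t ht
      exact ⟨⟨t, (mem_inf.1 ht).2⟩, hT₁ (mem_subgroupOf.2 ht), rfl⟩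
  have h4 : Nat.card ((T₁ : Subgroup (GB Y b : Subgroup H)).map (GB Y b).subtype) = Nat.card T₁ :=
    Nat.card_congr (Subgroup.equivMapOfInjective (T₁ : Subgroup (GB Y b : Subgroup H)) _ (GB Y b).subtype_injective).symm.toEquiv
  have h5 : Nat.card R₁ = Nat.card T₁ := Nat.card_congr (Sylow.equiv R₁ T₁).toEquiv
  have h6 : Nat.card R = Nat.card (R.subgroupOf (GB Y b)) :=
    Nat.card_congr (Subgroup.subgroupOfEquivOfLe hR).symm.toEquiv
  calc Nat.card R = Nat.card (R.subgroupOf (GB Y b)) := h6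
    _ ≤ Nat.card (R₁ : Subgroup (GB Y b : Subgroup H)) := Nat.card_le_card_of_injective _ (Subgroup.inclusion_injective hR₁)
    _ = Nat.card T₁ := h5
    _ ≤ Nat.card T := h4 ▸ h3

/-! ### the two classes -/

/-- elements of `S ∩ G_b` fix `Y_b` -/
theorem T_Y {b : ι} {t : H} (ht : t ∈ (S : Subgroup H) ⊓ GB Y b) : t • Y b = Y b := by
  obtain ⟨d, hd⟩ := F.exists_Y (fun A hA => F.S_EE (mem_inf.1 ht).1 hA) b
  rw [hd, F.fix_Y (mem_inf.1 ht).2 hd]

theorem conj_not_le {A : Subgroup H} (hJ : ¬ A ≤ J) (h : H) : ¬ MulAut.conj h • A ≤ J := fun hle => hJ (by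
  have h4 := (conj_le_iff (x := h⁻¹)).2 hle
  rwa [conj_inv_conj, conj_normal F.JN] at h4)

variable {b : ι} {D l : AddSubgroup M} (B : Bl S J EE Y b D l)
include B

/-- `h Y_b = Y_b` and `A, A^h` of type `b`: `h` preserves the pair `{D_b, l_b}` -/
theorem pair {A : Subgroup H} {h : H} (hA : A ∈ EE) (hJ : ¬ A ≤ J) (hAt : brk M A = Y b)
    (hA' : MulAut.conj h • A ∈ EE) (hY : h • Y b = Y b) : (h • D = D ∧ h • l = l) ∨ (h • D = l ∧ h • l = D) := by
  have hJ' := F.conj_not_le hJ h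
  have hAt' : brk M (MulAut.conj h • A) = Y b := by rw [← smul_brk, hAt, hY]
  refine pair_of_union B.Dl fun m hm => ?_
  have hmY : m ∈ Y b := hm.elim (fun h => B.DY h) fun h => B.lY h
  have hmY' : h • m ∈ Y b := by
    rw [← hY, mem_smul', inv_smul_smul]; exact hmY
  by_contra hcon
  push Not at hcon
  obtain ⟨a, ha, v, hv⟩ := (B.cov _ hA' hJ' hAt' _ hmY').2 (Or.inr hcon)
  rw [mem_conj] at ha
  have h1 : ∃ a ∈ A, ∃ v : M, a • v - v = m := by
    refine ⟨_, ha, h⁻¹ • v, ?_⟩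
    rw [mul_smul, mul_smul, smul_inv_smul, ← smul_sub, hv, inv_smul_smul]
  rcases (B.cov _ hA hJ hAt _ hmY).1 h1 with h2 | h2
  · rw [h2, smul_zero] at hcon
    exact hcon.1 (zero_mem _)
  · exact hm.elim h2.1 h2.2

theorem T_l {t : H} (ht : t ∈ (S : Subgroup H) ⊓ GB Y b) : t • D = D ∧ t • l = l := by
  have h1 := F.T_Y ht
  have h2 := B.SD t (mem_inf.1 ht).1 h1
  obtain ⟨A, hA, hJ, hAt⟩ := F.ex b
  have h3 := F.S_EE (mem_inf.1 ht).1 hA
  rcases F.pair B hA hJ hAt h3 h1 with h5 | h5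
  · exact h5
  · refine ⟨h2, ?_⟩
    have h6 : D = l := h2.symm.trans h5.1
    rw [← h6, h2]

omit [Finite H] [Finite M] F B in
/-- `N₂` -/
def NTwo (Y : ι → AddSubgroup M) (b : ι) (D l : AddSubgroup M) : Subgroup H where
  carrier := {g | g ∈ (GB Y b : Subgroup H) ∧
    ((g • D = D ∧ g • l = l) ∨ (g • D = l ∧ g • l = D))}
  one_mem' := ⟨one_mem _, Or.inl ⟨one_smul _ _, one_smul _ _⟩⟩
  mul_mem' := by
    rintro x y ⟨hx, hx'⟩ ⟨hy, hy'⟩
    refine ⟨mul_mem hx hy, ?_⟩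
    rcases hx' with ⟨h1, h2⟩ | ⟨h1, h2⟩ <;> rcases hy' with ⟨h3, h4⟩ | ⟨h3, h4⟩
    · exact Or.inl ⟨by rw [mul_smul, h3, h1], by rw [mul_smul, h4, h2]⟩
    · exact Or.inr ⟨by rw [mul_smul, h3, h2], by rw [mul_smul, h4, h1]⟩
    · exact Or.inr ⟨by rw [mul_smul, h3, h1], by rw [mul_smul, h4, h2]⟩
    · exact Or.inl ⟨by rw [mul_smul, h3, h2], by rw [mul_smul, h4, h1]⟩
  inv_mem' := by
    rintro x ⟨hx, hx'⟩
    refine ⟨inv_mem hx, ?_⟩
    rcases hx' with ⟨h1, h2⟩ | ⟨h1, h2⟩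
    · exact Or.inl ⟨by rw [inv_smul_eq_iff, h1], by rw [inv_smul_eq_iff, h2]⟩
    · exact Or.inr ⟨by rw [inv_smul_eq_iff, h2], by rw [inv_smul_eq_iff, h1]⟩

/-- **`N₂` normalises `D_b`.** -/
theorem NTwo_D (hD : D ≠ ⊥) {g : H} (hg : g ∈ (NTwo Y b D l : Subgroup H)) : g • D = D := by
  by_contra hcon
  have hne : D ≠ l := fun h => hD (by
    have := B.Dl
    rwa [← h, inf_idem] at this)
  have hsw : g • D = l ∧ g • l = D := hg.2.resolve_left fun h => hcon h.1
  -- odd powers of `g` swap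
  have hodd : ∀ n : ℕ, (g ^ (2 * n + 1)) • D = l ∧ (g ^ (2 * n + 1)) • l = D := by
    intro n
    induction n with
    | zero => simpa using hsw
    | succ n ih =>
      have e1 : g ^ (2 * (n + 1) + 1) = g * (g * g ^ (2 * n + 1)) := by
        rw [← pow_succ', ← pow_succ']
        congr 1
      rw [e1, mul_smul, mul_smul, mul_smul, mul_smul, ih.1, ih.2, hsw.1, hsw.2, hsw.1]
      exact ⟨rfl, rfl⟩
  obtain ⟨k, n, hn, hkn⟩ := Nat.exists_eq_two_pow_mul_odd (orderOf_pos g).ne'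
  obtain ⟨r, rfl⟩ := hn
  obtain ⟨h1, h2⟩ := hodd r
  set x := g ^ (2 * r + 1) with hx
  have hx2 : x ^ 2 ^ k = 1 := by
    rw [hx, ← pow_mul, mul_comm, ← hkn, pow_orderOf_eq_one]
  have hxp : IsPGroup 2 (zpowers x) := by
    rintro ⟨y, hy⟩
    obtain ⟨j, rfl⟩ := mem_zpowers_iff.1 hy
    refine ⟨k, Subtype.ext ?_⟩
    rw [SubmonoidClass.mk_pow]
    change (x ^ j) ^ 2 ^ k = 1
    rw [← zpow_natCast, ← zpow_mul, mul_comm, zpow_mul, zpow_natCast, hx2, one_zpow]
  obtain ⟨c, hc, hcx⟩ := conj_le_of_card (C := NTwo Y b D l) (T := (S : Subgroup H) ⊓ GB Y b) (A := zpowers x)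
    (S.isPGroup'.to_le inf_le_left) (fun t ht => ⟨(mem_inf.1 ht).2, Or.inl (F.T_l B ht)⟩) hxp
    (by rw [zpowers_le]; exact pow_mem hg _) fun R hR h2 => F.card_le b (fun y hy => (hR hy).1) h2
  have h3 : c * x * c⁻¹ ∈ (S : Subgroup H) ⊓ GB Y b := hcx (conj_mem' (mem_zpowers x))
  have h4 := (F.T_l B h3).1
  have hcc := hc.2
  rcases hcc with ⟨h5, h6⟩ | ⟨h5, h6⟩
  · have h7 : c⁻¹ • D = D := by rw [inv_smul_eq_iff, h5]
    rw [mul_smul, mul_smul, h7, h1, h6] at h4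
    exact hne h4.symm
  · have h7 : c⁻¹ • D = l := by rw [inv_smul_eq_iff, h6]
    rw [mul_smul, mul_smul, h7, h2, h5] at h4
    exact hne h4.symm

/-- **`k x ∈ Y_b C(K)` implies `k x ∈ D_b`.** -/
theorem mem_D {x : M} {A : Subgroup H} {K : Subgroup H} (hA : A ∈ EE) (hAJ : ¬ A ≤ J)
    (hAt : brk M A = Y b) (hAK : A ≤ K) (hK : K ≤ GB Y b) (hx : x ∈ D) (hx0 : x ≠ 0)
    (hxT : ∀ t ∈ (S : Subgroup H) ⊓ GB Y b, t • x = x) (hYK : Y b ⊓ fxd K = ⊥) {k : H} (hk : k ∈ K) {y c : M}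
    (hy : y ∈ Y b) (hc : c ∈ (fxd K : AddSubgroup M)) (h : k • x = y + c) : k • x ∈ D := by
  set y₁ := k • x with hy₁
  let C : Subgroup H :=
    { carrier := {g | g ∈ (GB Y b : Subgroup H) ∧ g • y₁ = y₁}
      one_mem' := ⟨one_mem _, one_smul _ _⟩
      mul_mem' := fun {p q} hp hq => ⟨mul_mem hp.1 hq.1, by rw [mul_smul, hq.2, hp.2]⟩
      inv_mem' := fun {p} hp => ⟨inv_mem hp.1, by rw [inv_smul_eq_iff, hp.2]⟩ }
  have hAC : A ≤ C := by
    intro a ha
    refine ⟨hK (hAK ha), ?_⟩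
    rw [h, smul_add, F.cent A hA b y hy a ha, hc a (hAK ha)]
  have hTC : MulAut.conj k • ((S : Subgroup H) ⊓ GB Y b) ≤ C := by
    intro t ht
    rw [mem_conj] at ht
    refine ⟨?_, ?_⟩
    · have h1 := mul_mem (mul_mem (hK hk) (mem_inf.1 ht).2) (inv_mem (hK hk))
      have e1 : k * (k⁻¹ * t * k) * k⁻¹ = t := by group
      rwa [e1] at h1
    · have h1 := hxT _ ht
      rw [mul_smul, mul_smul, inv_smul_eq_iff] at h1
      exact h1
  have hTp : IsPGroup 2 ((S : Subgroup H) ⊓ GB Y b : Subgroup H) := S.isPGroup'.to_le inf_le_left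
  obtain ⟨c₁, hc₁, hcA⟩ := conj_le_of_card (C := C) (T := MulAut.conj k • ((S : Subgroup H) ⊓ GB Y b)) (A := A)
    (isPGroup_conj k hTp) hTC (S.isPGroup'.to_le (F.EES A hA)) hAC fun R hR h2 => by
      rw [card_conj]
      exact F.card_le b (fun z hz => (hR hz).1) h2
  set g := k⁻¹ * c₁ with hg
  have hgG : g ∈ (GB Y b : Subgroup H) := mul_mem (inv_mem (hK hk)) hc₁.1
  have h1 : MulAut.conj g • A ≤ (S : Subgroup H) ⊓ GB Y b := by
    have h2 := (conj_le_iff (x := k⁻¹)).2 hcA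
    rwa [conj_inv_conj, conj_conj] at h2
  have h2 := F.EEc A hA g (h1.trans inf_le_left)
  obtain ⟨d, hd⟩ := F.typ _ h2 (F.conj_not_le hAJ g)
  have h3 : g • Y b = Y d := by rw [← hAt, smul_brk, hd]
  obtain rfl := F.fix_Y hgG h3
  have hD0 : D ≠ ⊥ := fun h0 => hx0 (by
    rw [h0] at hx
    exact (AddSubgroup.mem_bot.1 hx))
  have h4 : g • D = D := F.NTwo_D B hD0 ⟨hgG, F.pair B hA hAJ hAt h2 h3⟩
  have h5 : g • y₁ = x := by rw [hg, mul_smul, hc₁.2, hy₁, inv_smul_smul]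
  have h6 : g • c ∈ Y d := by
    have h7 : g • c = x - g • y := by
      rw [← h5, h, smul_add]; abel
    rw [h7]
    refine sub_mem (B.DY hx) ?_
    rw [← h3, mem_smul', inv_smul_smul]
    exact hy
  have h7 : c ∈ Y d := by
    have h8 : g • c ∈ g • Y d := by rw [h3]; exact h6
    rwa [mem_smul', inv_smul_smul] at h8
  have h8 : c = 0 := by
    have h9 : c ∈ Y d ⊓ fxd K := AddSubgroup.mem_inf.2 ⟨h7, hc⟩
    rw [hYK] at h9
    exact AddSubgroup.mem_bot.1 h9
  have h9 : y₁ = g⁻¹ • x := by rw [← h5, inv_smul_smul]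
  have h10 : g⁻¹ • D = D := by rw [inv_smul_eq_iff, h4]
  rw [h9, ← h10, mem_smul', inv_inv, smul_inv_smul]
  exact hx

/-- **THEOREM NS (3).** -/
theorem false_of {x : M} {A A₁ A₂ : Subgroup H} {V : AddSubgroup M} {q : ℕ} (hA : A ∈ EE) (hAJ : ¬ A ≤ J)
    (hAt : brk M A = Y b) (h₁ : A₁ ≤ GB Y b) (h₂ : A₂ ≤ GB Y b) (hx : x ∈ D) (hx0 : x ≠ 0)
    (hxT : ∀ t ∈ (S : Subgroup H) ⊓ GB Y b, t • x = x) (hi : (fxd A : AddSubgroup M).index ≤ q)
    (hi₁ : (fxd A₁ : AddSubgroup M).index ≤ q) (hi₂ : (fxd A₂ : AddSubgroup M).index ≤ q)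
    (hV : q ^ 3 ≤ Nat.card V) (hYV : Y b ≤ V)
    (fE : ∀ v ∈ V, v ∈ (fxd A : AddSubgroup M) → v ∈ (fxd A₁ : AddSubgroup M) → v ∈ D)
    (Ef : ∀ d ∈ D, ∀ a ∈ A₁, a • d = d) (tr : ∀ v ∈ V, ∃ g ∈ A ⊔ A₁, g • v ∈ Y b)
    (mv : ∀ d ∈ D, d ≠ 0 → ∃ a ∈ A₂, a • d ∉ D) : False := by
  set K : Subgroup H := A ⊔ A₁ ⊔ A₂ with hK
  have hKG : K ≤ GB Y b := sup_le (sup_le (F.le_GB hA b) h₁) h₂
  have hfx : (fxd K : AddSubgroup M) = fxd A ⊓ fxd A₁ ⊓ fxd A₂ := by
    apply le_antisymm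
    · exact fun m hm => ⟨⟨fun a ha => hm a (le_sup_left (α := Subgroup H) (le_sup_left (α := Subgroup H) ha)),
        fun a ha => hm a (le_sup_left (α := Subgroup H) (le_sup_right (α := Subgroup H) ha))⟩,
        fun a ha => hm a (le_sup_right (α := Subgroup H) ha)⟩
    · rintro m ⟨⟨h1, h2⟩, h3⟩
      have h4 : K ≤ MulAction.stabilizer H m := sup_le (sup_le (fun a ha => h1 a ha) fun a ha => h2 a ha)
        fun a ha => h3 a ha
      exact fun a ha => h4 ha
  have hVK : V ⊓ fxd K = ⊥ := by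
    rw [eq_bot_iff]
    rintro v ⟨hv, hvK⟩
    rw [hfx] at hvK
    obtain ⟨⟨h1, h2⟩, h3⟩ := hvK
    have h4 := fE v hv h1 h2
    by_contra h0
    obtain ⟨a, ha, h5⟩ := mv v h4 fun h => h0 (AddSubgroup.mem_bot.2 h)
    exact h5 (by rw [h3 a ha]; exact h4)
  have hidx : (fxd K : AddSubgroup M).index ≤ q ^ 3 := by
    rw [hfx]
    calc (fxd A ⊓ fxd A₁ ⊓ fxd A₂ : AddSubgroup M).index
        ≤ (fxd A ⊓ fxd A₁ : AddSubgroup M).index * (fxd A₂ : AddSubgroup M).index := AddSubgroup.index_inf_le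
      _ ≤ ((fxd A : AddSubgroup M).index * (fxd A₁ : AddSubgroup M).index) * (fxd A₂ : AddSubgroup M).index :=
          Nat.mul_le_mul_right _ AddSubgroup.index_inf_le
      _ ≤ (q * q) * q := Nat.mul_le_mul (Nat.mul_le_mul hi hi₁) hi₂
      _ = q ^ 3 := by ring
  have hsup : V ⊔ fxd K = ⊤ := by
    rw [← AddSubgroup.index_eq_one]
    have h1 : (fxd K : AddSubgroup M).relIndex (V ⊔ fxd K) = Nat.card V := by
      rw [AddSubgroup.relIndex_sup_right]
      have h2 : (fxd K : AddSubgroup M).relIndex V = ((fxd K : AddSubgroup M) ⊓ V).relIndex V :=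
        (AddSubgroup.inf_relIndex_right _ _).symm
      rw [h2, inf_comm, hVK, AddSubgroup.relIndex_bot_left]
    have h2 : (fxd K : AddSubgroup M).relIndex (V ⊔ fxd K) * (V ⊔ fxd K).index = (fxd K : AddSubgroup M).index :=
      AddSubgroup.relIndex_mul_index le_sup_right
    rw [h1] at h2
    have h3 : 0 < Nat.card V := Nat.card_pos
    have h4 : (V ⊔ fxd K : AddSubgroup M).index ≠ 0 := AddSubgroup.index_ne_zero_of_finite
    have h5 : Nat.card V * (V ⊔ fxd K : AddSubgroup M).index ≤ Nat.card V * 1 := by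
      rw [h2, mul_one]
      exact hidx.trans hV
    have h6 := Nat.le_of_mul_le_mul_left h5 h3
    omega
  have hYK : Y b ⊓ fxd K = ⊥ := by
    rw [eq_bot_iff, ← hVK]
    exact inf_le_inf_right _ hYV
  have hmain : ∀ k ∈ K, k • x ∈ D := by
    intro k hk
    have h1 : k • x ∈ V ⊔ fxd K := by rw [hsup]; exact AddSubgroup.mem_top _
    obtain ⟨v, hv, c, hc, h2⟩ := AddSubgroup.mem_sup.1 h1
    obtain ⟨g, hg, h3⟩ := tr v hv
    have hgK : g ∈ K := (le_sup_left : A ⊔ A₁ ≤ K) hg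
    have h4 : (g * k) • x = g • v + c := by
      rw [mul_smul, ← h2, smul_add, hc g hgK]
    have h5 := F.mem_D B hA hAJ hAt ((le_sup_left : A ≤ A ⊔ A₁).trans le_sup_left) hKG hx hx0 hxT hYK
      (mul_mem hgK hk) h3 hc h4
    have h6 : ∀ d ∈ D, g • d = d := by
      intro d hd
      have h7 : A ⊔ A₁ ≤ MulAction.stabilizer H d := sup_le (fun a ha => F.cent A hA b d (B.DY hd) a ha)
        fun a ha => Ef d hd a ha
      exact h7 hg
    have h7 : k • x = g⁻¹ • ((g * k) • x) := by rw [mul_smul, inv_smul_smul]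
    rw [h7]
    have h8 : g⁻¹ • ((g * k) • x) = (g * k) • x := by rw [inv_smul_eq_iff, h6 _ h5]
    rw [h8]
    exact h5
  obtain ⟨a, ha, h1⟩ := mv x hx hx0
  exact h1 (hmain a (le_sup_right (α := Subgroup H) ha))

end Frame

end Cfsg.Agent.Omega.NOThreeL.RRed.NS
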